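import Mathlib
import Cfsg.Agent.Lib.ShortPres.Tracked

/-!
Presentations on given generators: gluing one further generator, and changes of generators.
-/

set_option autoImplicit false

namespace Cfsg.Agent.ShortPres.Seven

open Monoid Bound

variable {G : Type*} [Group G]

/-- The given generators have a kernel normally generated by at most `k` elements. -/
def On {m : ℕ} (f : Fin m → G) (k : ℕ) : Prop :=
  ∃ R : List (FreeGroup (Fin m)), R.length ≤ k ∧
    (∀ r ∈ R, FreeGroup.lift f r = 1) ∧ Function.Surjective (FreeGroup.lift f) ∧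
    ∀ r, FreeGroup.lift f r = 1 → r ∈ Subgroup.normalClosure {r | r ∈ R}

theorem On.presN {m k : ℕ} {f : Fin m → G} (h : On f k) : PresN G m k := ⟨f, h⟩

theorem On.mono {m k k' : ℕ} {f : Fin m → G} (h : On f k) (hk : k ≤ k') : On f k' := by
  obtain ⟨R, h1, h2⟩ := h
  exact ⟨R, h1.trans hk, h2⟩

theorem On.of_universal {m k : ℕ} (f : Fin m → G) (R : List (FreeGroup (Fin m))) (hlen : R.length ≤ k)
    (hR : ∀ r ∈ R, FreeGroup.lift f r = 1) (hs : Function.Surjective (FreeGroup.lift f))
    (hu : ∀ (H : Type) [Group H] (h : Fin m → H), (∀ r ∈ R, FreeGroup.lift h r = 1) →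
      ∃ φ : G →* H, ∀ i, φ (f i) = h i) : On f k := by
  refine ⟨R, hlen, hR, hs, fun r hr => ?_⟩
  set N := Subgroup.normalClosure {r | r ∈ R}
  obtain ⟨φ, hφ⟩ := hu (FreeGroup (Fin m) ⧸ N) (fun i => QuotientGroup.mk' N (FreeGroup.of i)) fun x hx => by
    rw [show FreeGroup.lift (fun i => QuotientGroup.mk' N (FreeGroup.of i)) = QuotientGroup.mk' N from
      FreeGroup.ext_hom _ _ fun i => by simp]
    exact (QuotientGroup.eq_one_iff x).2 (Subgroup.subset_normalClosure hx)
  have e : φ.comp (FreeGroup.lift f) = QuotientGroup.mk' N := FreeGroup.ext_hom _ _ fun i => by simp [hφ]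
  exact (QuotientGroup.eq_one_iff r).1 (show QuotientGroup.mk' N r = 1 by
    rw [← e, MonoidHom.comp_apply, hr, map_one])

theorem On.congr {G' : Type*} [Group G'] {m k : ℕ} {f : Fin m → G} (h : On f k) (e : G ≃* G') :
    On (fun i => e (f i)) k := by
  obtain ⟨R, h1, h2, h3, h4⟩ := h
  have he : FreeGroup.lift (fun i => e (f i)) = e.toMonoidHom.comp (FreeGroup.lift f) :=
    FreeGroup.ext_hom _ _ fun i => by simp
  refine ⟨R, h1, fun r hr => ?_, ?_, fun r hr => h4 r ?_⟩
  · rw [he, MonoidHom.comp_apply, h2 r hr, map_one]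
  · rw [he]; exact e.surjective.comp h3
  · rw [he] at hr; exact e.map_eq_one_iff.1 hr

/-- The map from the free product with an infinite cyclic group given by an element. -/
def cop {A : Type*} [Group A] (iA : A →* G) (t : G) : Coprod A (FreeGroup (Fin 1)) →* G :=
  Coprod.lift iA (FreeGroup.lift fun _ => t)

@[simp] theorem cop_inl {A : Type*} [Group A] (iA : A →* G) (t : G) (a : A) : cop iA t (Coprod.inl a) = iA a :=
  Coprod.lift_apply_inl _ _ _

@[simp] theorem cop_inr {A : Type*} [Group A] (iA : A →* G) (t : G) :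
    cop iA t (Coprod.inr (FreeGroup.of 0)) = t := by
  simp [cop]

theorem word_eval' {A K : Type*} [Group A] [Group K] {a : ℕ} (fA : Fin a → A)
    (sec : Coprod A (FreeGroup (Fin 1)) → Coprod (FreeGroup (Fin a)) (FreeGroup (Fin 1)))
    (hsec : ∀ e, Coprod.map (FreeGroup.lift fA) (MonoidHom.id _) (sec e) = e)
    (α : A →* K) (T : K) (h : Fin (a + 1) → K) (ha : ∀ i, h i.castSucc = α (fA i)) (hb : h (Fin.last a) = T) :
    (∀ r, FreeGroup.lift h (FreeGroup.map Fin.castSucc r) = α (FreeGroup.lift fA r)) ∧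
      ∀ e, FreeGroup.lift h (Coprod.lift (FreeGroup.map Fin.castSucc) (FreeGroup.map fun _ => Fin.last a) (sec e)) =
        cop α T e := by
  have e1 : (FreeGroup.lift h).comp (FreeGroup.map Fin.castSucc) = α.comp (FreeGroup.lift fA) :=
    FreeGroup.ext_hom _ _ fun i => by simp [ha]
  have e3 : (FreeGroup.lift h).comp (Coprod.lift (FreeGroup.map Fin.castSucc) (FreeGroup.map fun _ => Fin.last a)) =
      (cop α T).comp (Coprod.map (FreeGroup.lift fA) (MonoidHom.id (FreeGroup (Fin 1)))) := by
    refine Coprod.hom_ext ?_ ?_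
    · rw [MonoidHom.comp_assoc, Coprod.lift_comp_inl, e1, MonoidHom.comp_assoc, Coprod.map_comp_inl,
        ← MonoidHom.comp_assoc]
      rfl
    · refine FreeGroup.ext_hom _ _ fun i => ?_
      simp [cop, hb]
  exact ⟨fun r => DFunLike.congr_fun e1 r, fun e => (DFunLike.congr_fun e3 (sec e)).trans (congrArg _ (hsec e))⟩

/-- One further generator and the relations tying it to a presented group. -/
theorem On.adjoin {A : Type*} [Group A] {a k : ℕ} {fA : Fin a → A} (hA : On fA k) (iA : A →* G) (t : G)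
    (hgen : ∀ K : Subgroup G, iA.range ≤ K → t ∈ K → K = ⊤) (E : List (Coprod A (FreeGroup (Fin 1))))
    (hE : ∀ e ∈ E, cop iA t e = 1)
    (hu : ∀ (H : Type) [Group H] (α : A →* H) (T : H), (∀ e ∈ E, cop α T e = 1) →
      ∃ φ : G →* H, φ.comp iA = α ∧ φ t = T) :
    On (Fin.snoc (fun i => iA (fA i)) t : Fin (a + 1) → G) (k + E.length) := by
  obtain ⟨RA, lA, tA, sA, nA⟩ := hA
  let jA : FreeGroup (Fin a) →* FreeGroup (Fin (a + 1)) := FreeGroup.map Fin.castSucc
  let jB : FreeGroup (Fin 1) →* FreeGroup (Fin (a + 1)) := FreeGroup.map fun _ => Fin.last a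
  obtain ⟨sec, hsec⟩ := (coprod_map_surjective sA
    (g := MonoidHom.id (FreeGroup (Fin 1))) Function.surjective_id).hasRightInverse
  set f : Fin (a + 1) → G := Fin.snoc (fun i => iA (fA i)) t
  obtain ⟨kA, kE⟩ := word_eval' fA sec hsec iA t f (fun i => by simp [f]) (by simp [f])
  refine On.of_universal f (RA.map jA ++ E.map fun e => Coprod.lift jA jB (sec e)) (by simp; omega)
    (fun r hr => ?_) ?_ ?_
  · simp only [List.mem_append, List.mem_map] at hr
    rcases hr with ⟨r, h, rfl⟩ | ⟨e, h, rfl⟩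
    · rw [kA, tA r h, map_one]
    · rw [kE, hE e h]
  · rw [← MonoidHom.range_eq_top]
    refine hgen _ ?_ ⟨FreeGroup.of (Fin.last a), by simp [f]⟩
    rintro _ ⟨x, rfl⟩
    obtain ⟨r, rfl⟩ := sA x
    exact ⟨jA r, kA r⟩
  · intro H _ h hR
    obtain ⟨α, hα⟩ := exists_hom_of fA RA sA nA (fun i => h i.castSucc) fun r hr => by
      rw [show FreeGroup.lift (fun i => h (Fin.castSucc i)) = (FreeGroup.lift h).comp jA from
        FreeGroup.ext_hom _ _ fun i => by simp [jA], MonoidHom.comp_apply]
      exact hR _ (List.mem_append_left _ (List.mem_map_of_mem hr))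
    obtain ⟨-, khE⟩ := word_eval' fA sec hsec α (h (Fin.last a)) h (fun i => (hα i).symm) rfl
    obtain ⟨φ, hφA, hφt⟩ := hu H α (h (Fin.last a)) fun e he => by
      rw [← khE]
      exact hR _ (List.mem_append_right _ (List.mem_map.2 ⟨e, he, rfl⟩))
    refine ⟨φ, fun i => ?_⟩
    induction i using Fin.lastCases with
    | last => simp [f, hφt]
    | cast i => simp [f, ← hα, ← hφA]

/-- Fewer generators, when the old letters map onto the new ones freely. -/
theorem On.project {m l k : ℕ} {f : Fin m → G} (h : On f k) (g : Fin l → G) (w : Fin m → FreeGroup (Fin l))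
    (v : Fin l → FreeGroup (Fin m)) (hw : ∀ i, FreeGroup.lift g (w i) = f i)
    (hv : ∀ j, FreeGroup.lift w (v j) = FreeGroup.of j) : On g k := by
  obtain ⟨R, h1, h2, h3, h4⟩ := h
  have hgw : (FreeGroup.lift g).comp (FreeGroup.lift w) = FreeGroup.lift f :=
    FreeGroup.ext_hom _ _ fun i => by simp [hw]
  refine On.of_universal g (R.map (FreeGroup.lift w)) (by simpa using h1) (fun r hr => ?_) ?_ ?_
  · obtain ⟨r, hr', rfl⟩ := List.mem_map.1 hr
    rw [← MonoidHom.comp_apply, hgw, h2 r hr']
  · intro x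
    obtain ⟨r, rfl⟩ := h3 x
    exact ⟨FreeGroup.lift w r, by rw [← MonoidHom.comp_apply, hgw]⟩
  · intro H _ h hR
    have e : (FreeGroup.lift h).comp (FreeGroup.lift w) = FreeGroup.lift fun i => FreeGroup.lift h (w i) :=
      FreeGroup.ext_hom _ _ fun i => by simp
    obtain ⟨φ, hφ⟩ := exists_hom_of f R h3 h4 (fun i => FreeGroup.lift h (w i)) fun r hr => by
      rw [← e, MonoidHom.comp_apply]; exact hR _ (List.mem_map_of_mem hr)
    refine ⟨φ, fun j => ?_⟩
    have hg : g j = FreeGroup.lift f (v j) := by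
      rw [← hgw, MonoidHom.comp_apply, hv, FreeGroup.lift_apply_of]
    have e2 : φ.comp (FreeGroup.lift f) = (FreeGroup.lift h).comp (FreeGroup.lift w) :=
      FreeGroup.ext_hom _ _ fun i => by simp [hφ]
    rw [hg, ← MonoidHom.comp_apply, e2, MonoidHom.comp_apply, hv, FreeGroup.lift_apply_of]

/-- Prescribed generators cost one relation each, and keep their names. -/
theorem Pres_on {k l : ℕ} (h : Pres G k) (g : Fin l → G) (hg : Subgroup.closure (Set.range g) = ⊤) :
    On g (k + l) := by
  obtain ⟨m, f, R, h1, h2, h3, h4⟩ := h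
  have hgs : Function.Surjective (FreeGroup.lift g) := by
    rw [← MonoidHom.range_eq_top, FreeGroup.range_lift_eq_closure, hg]
  choose w hw using fun i => hgs (f i)
  choose v hv using fun j => h3 (g j)
  have hgw : (FreeGroup.lift g).comp (FreeGroup.lift w) = FreeGroup.lift f :=
    FreeGroup.ext_hom _ _ fun i => by simp [hw]
  refine On.of_universal g
    (R.map (FreeGroup.lift w) ++ List.ofFn fun j => FreeGroup.of j * (FreeGroup.lift w (v j))⁻¹)
    (by simp; omega) (fun r hr => ?_) hgs ?_
  · simp only [List.mem_append, List.mem_map, List.mem_ofFn] at hr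
    rcases hr with ⟨r, h, rfl⟩ | ⟨j, rfl⟩
    · rw [← MonoidHom.comp_apply, hgw, h2 r h]
    · rw [map_mul, map_inv, ← MonoidHom.comp_apply, hgw, hv, FreeGroup.lift_apply_of, mul_inv_cancel]
  · intro H _ h hR
    have e : (FreeGroup.lift h).comp (FreeGroup.lift w) = FreeGroup.lift fun i => FreeGroup.lift h (w i) :=
      FreeGroup.ext_hom _ _ fun i => by simp
    obtain ⟨φ, hφ⟩ := exists_hom_of f R h3 h4 (fun i => FreeGroup.lift h (w i)) fun r hr => by
      rw [← e, MonoidHom.comp_apply]; exact hR _ (List.mem_append_left _ (List.mem_map_of_mem hr))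
    refine ⟨φ, fun j => ?_⟩
    have e2 : φ.comp (FreeGroup.lift f) = (FreeGroup.lift h).comp (FreeGroup.lift w) :=
      FreeGroup.ext_hom _ _ fun i => by simp [hφ]
    have hj := hR _ (List.mem_append_right _ (List.mem_ofFn.2 ⟨j, rfl⟩))
    rw [map_mul, map_inv, mul_inv_eq_one, FreeGroup.lift_apply_of] at hj
    rw [← hv j, ← MonoidHom.comp_apply, e2, MonoidHom.comp_apply, ← hj]

/-- The presented group, the letters going to the generators. -/
theorem On.presented {m k : ℕ} {f : Fin m → G} (h : On f k) :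
    ∃ rels : Finset (FreeGroup (Fin m)), rels.card ≤ k ∧
      ∃ e : PresentedGroup (↑rels : Set (FreeGroup (Fin m))) ≃* G, ∀ i, e (PresentedGroup.of i) = f i := by
  classical
  obtain ⟨R, h1, h2, h3, h4⟩ := h
  refine ⟨R.toFinset, (List.toFinset_card_le _).trans h1, ?_⟩
  have hset : (↑R.toFinset : Set (FreeGroup (Fin m))) = {r | r ∈ R} := by ext; simp
  have hk : Subgroup.normalClosure (↑R.toFinset : Set (FreeGroup (Fin m))) = (FreeGroup.lift f).ker := by
    rw [hset]
    exact le_antisymm (Subgroup.normalClosure_le_normal fun r hr => h2 r hr) fun r hr => h4 r hr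
  refine ⟨(QuotientGroup.quotientMulEquivOfEq hk).trans (QuotientGroup.quotientKerEquivOfSurjective _ h3),
    fun i => ?_⟩
  show FreeGroup.lift f (FreeGroup.of i) = f i
  simp

end Cfsg.Agent.ShortPres.Seven
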