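import Mathlib
import Cfsg.Agent.Lib.ShortPres.AltBounded

/-!
An alternating group extended by one further element exchanging some of the points with new ones.
-/

set_option autoImplicit false
set_option linter.unusedSectionVars false

namespace Cfsg.Agent.ShortPres.Seven

open Equiv Cfsg.Agent.ShortPres.Alt

variable {ι ω : Type*} [Fintype ι] [DecidableEq ι] [Fintype ω] [DecidableEq ω]

/-- Conjugation by a permutation. -/
noncomputable abbrev cj {α : Type*} [Fintype α] [DecidableEq α] (π : Perm α) :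
    alternatingGroup α →* alternatingGroup α :=
  altEmb π.toEmbedding

/-- The old points. -/
abbrev Old (ι ω : Type*) := (ι ⊕ ι) ⊕ ω

/-- All points. -/
abbrev All (ι ω : Type*) := ((ι ⊕ ι) ⊕ ω) ⊕ ι

/-- The second block and the common points. -/
def fP : ι ⊕ ω ↪ Old ι ω :=
  ⟨Sum.map Sum.inr id, Sum.map_injective.2 ⟨Sum.inr_injective, Function.injective_id⟩⟩

/-- The first block and the common points. -/
def fQ : ι ⊕ ω ↪ Old ι ω :=
  ⟨Sum.map Sum.inl id, Sum.map_injective.2 ⟨Sum.inl_injective, Function.injective_id⟩⟩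

/-- The new block and the common points. -/
def fR : ι ⊕ ω ↪ All ι ω :=
  ⟨Sum.elim Sum.inr (fun w => Sum.inl (Sum.inr w)), by
    intro a b h
    rcases a with a | a <;> rcases b with b | b <;> simp_all⟩

/-- The inclusion of the old points. -/
def fA : Old ι ω ↪ All ι ω := ⟨Sum.inl, Sum.inl_injective⟩

noncomputable abbrev eP : alternatingGroup (ι ⊕ ω) →* alternatingGroup (Old ι ω) := altEmb fP

noncomputable abbrev eQ : alternatingGroup (ι ⊕ ω) →* alternatingGroup (Old ι ω) := altEmb fQ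

noncomputable abbrev iA : alternatingGroup (Old ι ω) →* alternatingGroup (All ι ω) := altEmb fA

/-- A permutation of the common points among the old ones. -/
def up (π : Perm ω) : Perm (Old ι ω) := Equiv.sumCongr 1 π

/-- A permutation of the common points beside one block. -/
def dn (π : Perm ω) : Perm (ι ⊕ ω) := Equiv.sumCongr 1 π

/-- The exchange of the two old blocks. -/
def flipOld (ε : Perm ω) : Perm (Old ι ω) := Equiv.sumCongr (Equiv.sumComm ι ι) ε

/-- The exchange of the first block with the new one. -/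
def tauFun (σ : Perm ω) : All ι ω → All ι ω
  | Sum.inl (Sum.inl (Sum.inl i)) => Sum.inr i
  | Sum.inl (Sum.inl (Sum.inr i)) => Sum.inl (Sum.inl (Sum.inr i))
  | Sum.inl (Sum.inr w) => Sum.inl (Sum.inr (σ w))
  | Sum.inr i => Sum.inl (Sum.inl (Sum.inl i))

variable (u v : ω)

/-- The permitted twists. -/
def Twist (σ : Perm ω) : Prop := σ = 1 ∨ σ = swap u v

variable {u v}

theorem Twist.invol {σ : Perm ω} (h : Twist u v σ) (w : ω) : σ (σ w) = w := by
  rcases h with rfl | rfl <;> simp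

theorem Twist.mul_self {σ : Perm ω} (h : Twist u v σ) : σ * σ = 1 := Equiv.ext h.invol

theorem Twist.comm {σ ε : Perm ω} (h : Twist u v σ) (h' : Twist u v ε) (w : ω) : σ (ε w) = ε (σ w) := by
  rcases h with rfl | rfl <;> rcases h' with rfl | rfl <;> simp

/-- The extending element. -/
def tau {σ : Perm ω} (h : Twist u v σ) : Perm (All ι ω) :=
  Function.Involutive.toPerm (tauFun σ) (by
    rintro (((i | i) | w) | i) <;> simp [tauFun, h.invol])

theorem tau_mul_self {σ : Perm ω} (h : Twist u v σ) : (tau (ι := ι) h) * tau h = 1 := by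
  refine Equiv.ext fun x => ?_
  show tauFun σ (tauFun σ x) = x
  rcases x with ((i | i) | w) | i <;> simp [tauFun, h.invol]

theorem eP_dn (π : Perm ω) (e : alternatingGroup (ι ⊕ ω)) : eP (cj (dn π) e) = cj (up π) (eP e) := by
  simp only [altEmb_comp]
  congr 2
  ext x; rcases x with x | x <;> rfl

theorem eQ_dn (π : Perm ω) (e : alternatingGroup (ι ⊕ ω)) : eQ (cj (dn π) e) = cj (up π) (eQ e) := by
  simp only [altEmb_comp]
  congr 2
  ext x; rcases x with x | x <;> rfl

theorem up_up (π π' : Perm ω) (e : alternatingGroup (Old ι ω)) : cj (up π) (cj (up π') e) = cj (up (π * π')) e := by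
  simp only [altEmb_comp]
  congr 2
  ext x; rcases x with x | x <;> rfl

theorem dn_dn (π π' : Perm ω) (e : alternatingGroup (ι ⊕ ω)) : cj (dn π) (cj (dn π') e) = cj (dn (π * π')) e := by
  simp only [altEmb_comp]
  congr 2
  ext x; rcases x with x | x <;> rfl

theorem dn_one (e : alternatingGroup (ι ⊕ ω)) : cj (dn (1 : Perm ω)) e = e := by
  conv_rhs => rw [← altEmb_id e]
  show altEmb _ e = _
  congr 2
  ext x; rcases x with x | x <;> rfl

theorem tau_P {σ : Perm ω} (h : Twist u v σ) (e : alternatingGroup (ι ⊕ ω)) :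
    cj (tau h) (iA (eP e)) = iA (eP (cj (dn σ) e)) := by
  simp only [altEmb_comp]
  congr 2
  ext x; rcases x with x | x <;> rfl

theorem tau_Q {σ : Perm ω} (h : Twist u v σ) (e : alternatingGroup (ι ⊕ ω)) :
    cj (tau h) (altEmb fR e) = iA (eQ (cj (dn σ) e)) := by
  simp only [altEmb_comp]
  congr 2
  ext x; rcases x with x | x <;> rfl

theorem tau_tau {σ : Perm ω} (h : Twist u v σ) (e : alternatingGroup (All ι ω)) :
    cj (tau h) (cj (tau h) e) = e := by
  conv_rhs => rw [← altEmb_id e]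
  show altEmb _ (altEmb _ e) = _
  rw [altEmb_comp]
  congr 2
  ext x
  exact DFunLike.congr_fun (tau_mul_self h) x

variable (u v) in
/-- The cycle through one point of a block and the two chosen points. -/
def bcyc (huv : u ≠ v) (i : ι) : alternatingGroup (ι ⊕ ω) :=
  cyc (u := Sum.inr u) (v := Sum.inr v) (by simpa using huv) ⟨Sum.inl i, by simp⟩

theorem dn_bcyc (huv : u ≠ v) {σ : Perm ω} (h : Twist u v σ) (i : ι) :
    cj (dn σ) (bcyc u v huv i) = bcyc u v huv i ∨ cj (dn σ) (bcyc u v huv i) = (bcyc u v huv i)⁻¹ := by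
  rcases h with rfl | rfl
  · exact Or.inl (dn_one _)
  · refine Or.inr (Subtype.ext (Equiv.ext fun w => ?_))
    have e : ∀ x, (cj (dn (swap u v)) (bcyc u v huv i) : Perm (ι ⊕ ω)) (dn (swap u v) x) =
        dn (swap u v) ((bcyc u v huv i : Perm (ι ⊕ ω)) x) := altEmb_apply _ _
    obtain ⟨x, rfl⟩ := (dn (swap u v) : Perm (ι ⊕ ω)).surjective w
    rw [e, Subgroup.coe_inv]
    symm
    rw [Equiv.Perm.inv_eq_iff_eq]
    rcases x with x | x
    · by_cases hx : x = i
      · subst hx; simp [bcyc, cyc, dn, huv, huv.symm, swap_apply_def]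
      · simp [bcyc, cyc, dn, hx, swap_apply_def]
    · by_cases hxu : x = u
      · subst hxu; simp [bcyc, cyc, dn, huv, huv.symm, swap_apply_def]
      by_cases hxv : x = v
      · subst hxv; simp [bcyc, cyc, dn, huv, huv.symm, swap_apply_def]
      simp [bcyc, cyc, dn, hxu, hxv, swap_apply_def]

theorem conj_pair {H : Type*} [Group H] {T y z : H} (hT : T * T = 1) (h : (y * z) ^ 2 = 1) :
    (T * y * T * (T * z * T)) ^ 2 = 1 := by
  have hi : T⁻¹ = T := inv_eq_of_mul_eq_one_right hT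
  calc (T * y * T * (T * z * T)) ^ 2 = (T * y * T⁻¹ * (T * z * T⁻¹)) ^ 2 := by rw [hi]
    _ = T * (y * z) ^ 2 * T⁻¹ := by simp only [sq]; group
    _ = 1 := by rw [h]; group

theorem pair_symm {H : Type*} [Group H] {y z : H} (h : (y * z) ^ 2 = 1) : (z * y) ^ 2 = 1 := by
  calc (z * y) ^ 2 = y⁻¹ * (y * z) ^ 2 * y := by simp only [sq]; group
    _ = 1 := by rw [h]; group

set_option maxHeartbeats 800000 in
/-- The homomorphism determined by the old group and the extending element. -/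
theorem exists_ext (huv : u ≠ v) {σ ε : Perm ω} (hσ : Twist u v σ) (hε : Twist u v ε)
    (hg : flipOld (ι := ι) ε ∈ alternatingGroup (Old ι ω)) {H : Type*} [Group H]
    (α : alternatingGroup (Old ι ω) →* H) (T : H) (hT : T * T = 1)
    (hP : ∀ e, T * α (eP e) * T = α (eP (cj (dn σ) e)))
    (hne : Nonempty (Rest (Sum.inl (Sum.inr u) : All ι ω) (Sum.inl (Sum.inr v))))
    (hQ : ∀ c, T * α ⟨_, hg⟩ * T * α (eQ c) * (T * α ⟨_, hg⟩ * T) = α (eQ (cj (dn ε) c))) :
    ∃ φ : alternatingGroup (All ι ω) →* H, φ.comp iA = α ∧ ∀ g, φ (cj (tau hσ) g) = T * φ g * T := by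
  classical
  have hTi : T⁻¹ = T := inv_eq_of_mul_eq_one_right hT
  have huv2 : (Sum.inr u : Old ι ω) ≠ Sum.inr v := by simpa using huv
  have huv3 : (Sum.inl (Sum.inr u) : All ι ω) ≠ Sum.inl (Sum.inr v) := by simpa using huv
  set G : alternatingGroup (Old ι ω) := ⟨_, hg⟩ with hG
  have hGG : G * G = 1 := Subtype.ext (Equiv.ext fun x => by
    rcases x with (i | i) | w <;> simp [G, flipOld, hε.invol])
  have hGi : (α G)⁻¹ = α G := inv_eq_of_mul_eq_one_right (by rw [← map_mul, hGG, map_one])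
  let X : Rest (Sum.inr u : Old ι ω) (Sum.inr v) → alternatingGroup (Old ι ω) := cyc huv2
  let S : ι → Rest (Sum.inr u : Old ι ω) (Sum.inr v) := fun i => ⟨Sum.inl (Sum.inl i), by simp⟩
  let L : ι → Rest (Sum.inr u : Old ι ω) (Sum.inr v) := fun i => ⟨Sum.inl (Sum.inr i), by simp⟩
  have hSL : ∀ i j, L i ≠ S j := fun i j h => by simpa [L, S] using congrArg Subtype.val h
  have XS : ∀ i, X (S i) = eQ (bcyc u v huv i) := fun i =>
    (altEmb_cyc fQ (u := Sum.inr u) (v := Sum.inr v) _ huv2 _ (S i) rfl).symm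
  have XL : ∀ i, X (L i) = eP (bcyc u v huv i) := fun i =>
    (altEmb_cyc fP (u := Sum.inr u) (v := Sum.inr v) _ huv2 _ (L i) rfl).symm
  have hPi : ∀ e, α (eP e) = T * α (eP (cj (dn σ) e)) * T := fun e => by
    rw [hP, dn_dn, hσ.mul_self, dn_one]
  let z : ι → alternatingGroup (Old ι ω) := fun i => eQ (cj (dn σ) (bcyc u v huv i))
  have hz : ∀ i, z i = cj (up σ) (X (S i)) := fun i => by rw [XS]; exact eQ_dn σ _
  let x : Rest (Sum.inl (Sum.inr u) : All ι ω) (Sum.inl (Sum.inr v)) → H := fun b => match b with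
    | ⟨Sum.inl b, h⟩ => α (X ⟨b, by simpa using h.1, by simpa using h.2⟩)
    | ⟨Sum.inr i, _⟩ => T * α (z i) * T
  have hrel := rels_cyc huv2
  have hpairA : ∀ (π : Perm ω) (a b : Rest (Sum.inr u : Old ι ω) (Sum.inr v)), a ≠ b →
      (α (cj (up π) (X a)) * α (cj (up π) (X b))) ^ 2 = 1 := fun π a b hab => by
    rw [← map_mul, ← map_mul, ← map_pow, ← map_pow, hrel.pair a b hab, map_one, map_one]
  have cross : ∀ (b : Rest (Sum.inr u : Old ι ω) (Sum.inr v)) (j : ι), (α (X b) * (T * α (z j) * T)) ^ 2 = 1 := by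
    intro b j
    by_cases hb : ∃ w, fP w = b.1
    · obtain ⟨w, hw⟩ := hb
      have hwu : w ≠ Sum.inr u := fun h => b.2.1 (by rw [← hw, h]; rfl)
      have hwv : w ≠ Sum.inr v := fun h => b.2.2 (by rw [← hw, h]; rfl)
      have hX : X b = eP (cyc (u := Sum.inr u) (v := Sum.inr v) (by simpa using huv) ⟨w, hwu, hwv⟩) :=
        (altEmb_cyc fP (u := Sum.inr u) (v := Sum.inr v) _ huv2 _ b hw).symm
      have hbj : b ≠ S j := fun h => by
        rcases w with w | w
        · exact Sum.inr_ne_inl (Sum.inl_injective (hw.trans (congrArg Subtype.val h)))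
        · exact Sum.inr_ne_inl (hw.trans (congrArg Subtype.val h))
      rw [hX, hPi, eP_dn, ← hX, hz]
      exact conj_pair hT (hpairA σ b (S j) hbj)
    · obtain ⟨i, hi⟩ : ∃ i, b = S i := by
        obtain ⟨(i | i) | w, hb1, hb2⟩ := b
        · exact ⟨i, rfl⟩
        · exact absurd ⟨Sum.inl i, rfl⟩ hb
        · exact absurd ⟨Sum.inr w, rfl⟩ hb
      subst hi
      have e1 : α G * α (X (S i)) * α G = T * α (cj (up (σ * ε)) (X (L i))) * T := by
        rw [XL, ← eP_dn, ← dn_dn, ← hPi]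
        nth_rewrite 2 [← hGi]
        rw [← map_inv, ← map_mul, ← map_mul]
        congr 1
        rw [XS]
        refine (conj_altEmb fQ G _).trans ?_
        show _ = altEmb fP (altEmb _ _)
        rw [altEmb_comp]
        congr 2
        ext y; rcases y with y | y <;> rfl
      have e2 : α G * (T * α (z j) * T) * α G = T * α (cj (up (σ * ε)) (X (S j))) * T := by
        have h := hQ (cj (dn σ) (bcyc u v huv j))
        calc α G * (T * α (z j) * T) * α G = T * (T * α G * T * α (z j) * (T * α G * T)) * T := by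
              simp only [← mul_assoc, hT, one_mul]; simp only [mul_assoc, hT, mul_one]
          _ = _ := by
            rw [h, dn_dn, XS, show ε * σ = σ * ε from Equiv.ext fun w => hε.comm hσ w, eQ_dn]
      have h := conj_pair hT (hpairA (σ * ε) (L i) (S j) (hSL i j))
      rw [← e1, ← e2] at h
      have e3 : (α G * α (X (S i)) * α G * (α G * (T * α (z j) * T) * α G)) ^ 2 =
          α G * (α (X (S i)) * (T * α (z j) * T)) ^ 2 * (α G)⁻¹ := by
        rw [hGi, sq, sq]
        have hG2 : α G * α G = 1 := by rw [← map_mul, hGG, map_one]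
        simp only [mul_assoc]
        simp only [← mul_assoc (α G) (α G), hG2, one_mul]
      rw [e3] at h
      exact conj_eq_one_iff.1 h
  have hx : Rels x := by
    constructor
    · rintro ⟨b | i, hb⟩
      · show α (X _) ^ 3 = 1
        rw [← map_pow, hrel.cube, map_one]
      · show (T * α (z i) * T) ^ 3 = 1
        nth_rewrite 2 [← hTi]
        rw [conj_pow, ← map_pow, hz, ← map_pow, hrel.cube, map_one, map_one]
        simp
    · rintro ⟨b | i, hb⟩ ⟨b' | j, hb'⟩ hne
      · show (α (X _) * α (X _)) ^ 2 = 1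
        rw [← map_mul, ← map_pow, hrel.pair _ _ (fun h => hne (by simpa [Subtype.ext_iff] using h)), map_one]
      · exact cross _ j
      · exact pair_symm (cross _ i)
      · show (T * α (z i) * T * (T * α (z j) * T)) ^ 2 = 1
        rw [hz, hz]
        exact conj_pair hT (hpairA σ _ _ fun h => hne (by simpa [Subtype.ext_iff, S] using h))
  obtain ⟨φ, hφ⟩ := exists_hom huv3 hne hx
  have hφA : φ.comp iA = α := by
    refine MonoidHom.eq_of_eqOn_dense (closure_cyc huv2) ?_
    rintro _ ⟨b, rfl⟩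
    have hb : (Sum.inl b.1 : All ι ω) ≠ Sum.inl (Sum.inr u) ∧ (Sum.inl b.1 : All ι ω) ≠ Sum.inl (Sum.inr v) := by
      simpa using b.2
    show φ (iA (cyc huv2 b)) = _
    rw [show iA (cyc huv2 b) = cyc huv3 ⟨Sum.inl b.1, hb⟩ from altEmb_cyc fA (u := Sum.inr u) (v := Sum.inr v) huv2 huv3 b _ rfl, hφ]
  refine ⟨φ, hφA, fun g => ?_⟩
  have hA : ∀ a, φ (iA a) = α a := fun a => DFunLike.congr_fun hφA a
  have hR : ∀ i, φ (altEmb fR (bcyc u v huv i)) = T * α (z i) * T := fun i => by
    have hi : (Sum.inr i : All ι ω) ≠ Sum.inl (Sum.inr u) ∧ (Sum.inr i : All ι ω) ≠ Sum.inl (Sum.inr v) := by simp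
    rw [show altEmb fR (bcyc u v huv i) = cyc huv3 ⟨Sum.inr i, hi⟩ from altEmb_cyc fR (u := Sum.inr u) (v := Sum.inr v) _ huv3 _ _ rfl, hφ]
  have hRz : ∀ i, φ (cj (tau hσ) (iA (z i))) = T * φ (iA (z i)) * T := fun i => by
    rw [show iA (z i) = cj (tau hσ) (altEmb fR (bcyc u v huv i)) from (tau_Q hσ _).symm, tau_tau, hR]
    rw [tau_Q, hA]
  refine DFunLike.congr_fun (f := φ.comp (cj (tau hσ))) (g := (MulAut.conj T).toMonoidHom.comp φ)
    (MonoidHom.eq_of_eqOn_dense (closure_cyc huv3) ?_) g |>.trans (by simp [hTi])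
  intro g hgm
  obtain ⟨⟨((i | i) | w) | i, hb⟩, rfl⟩ := hgm
  · rw [show cyc huv3 ⟨Sum.inl (Sum.inl (Sum.inl i)), hb⟩ = iA (X (S i)) from
      (altEmb_cyc fA (u := Sum.inr u) (v := Sum.inr v) huv2 huv3 (S i) _ rfl).symm, XS]
    show φ (cj (tau hσ) (iA (eQ (bcyc u v huv i)))) = T * φ (iA (eQ (bcyc u v huv i))) * T⁻¹
    rw [hTi]
    rcases dn_bcyc huv hσ i with e | e
    · have := hRz i
      simp only [z, e] at this
      exact this
    · have := congrArg (·⁻¹) (hRz i)
      simp only [z, e, map_inv, _root_.mul_inv_rev, inv_inv, hTi, ← mul_assoc] at this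
      exact this
  · rw [show cyc huv3 ⟨Sum.inl (Sum.inl (Sum.inr i)), hb⟩ = iA (X (L i)) from
      (altEmb_cyc fA (u := Sum.inr u) (v := Sum.inr v) huv2 huv3 (L i) _ rfl).symm, XL]
    show φ (cj (tau hσ) (iA (eP (bcyc u v huv i)))) = T * φ (iA (eP (bcyc u v huv i))) * T⁻¹
    rw [tau_P, hA, hA, hTi, hP]
  · have hwu : (Sum.inr w : Old ι ω) ≠ Sum.inr u ∧ (Sum.inr w : Old ι ω) ≠ Sum.inr v := by simpa using hb
    rw [show cyc huv3 ⟨Sum.inl (Sum.inr w), hb⟩ = iA (X ⟨Sum.inr w, hwu⟩) from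
      (altEmb_cyc fA (u := Sum.inr u) (v := Sum.inr v) huv2 huv3 ⟨Sum.inr w, hwu⟩ _ rfl).symm]
    have hwu' : (Sum.inr w : ι ⊕ ω) ≠ Sum.inr u ∧ (Sum.inr w : ι ⊕ ω) ≠ Sum.inr v := by simpa using hb
    rw [show X ⟨Sum.inr w, hwu⟩ = eP (cyc (by simpa using huv) ⟨Sum.inr w, hwu'⟩) from
      (altEmb_cyc fP (u := Sum.inr u) (v := Sum.inr v) _ huv2 _ _ rfl).symm]
    show φ (cj (tau hσ) (iA (eP _))) = T * φ (iA (eP _)) * T⁻¹
    rw [tau_P, hA, hA, hTi, hP]
  · rw [show cyc huv3 ⟨Sum.inr i, hb⟩ = altEmb fR (bcyc u v huv i) from (altEmb_cyc fR (u := Sum.inr u) (v := Sum.inr v) _ huv3 _ _ rfl).symm]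
    show φ (cj (tau hσ) (altEmb fR (bcyc u v huv i))) = T * φ (altEmb fR (bcyc u v huv i)) * T⁻¹
    rw [tau_Q, hA, hR, hTi]
    simp only [← mul_assoc, hT, one_mul]
    rw [mul_assoc, hT, mul_one]

end Cfsg.Agent.ShortPres.Seven
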