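import Mathlib
import Cfsg.Agent.Lib.ShortPres.Seven.Basic
import Cfsg.Agent.Lib.ShortPres.Seven.Braid

/-!
Three relations adjoining the extending element to the old alternating group.
-/

set_option autoImplicit false
set_option linter.unusedSectionVars false

namespace Cfsg.Agent.ShortPres.Seven

open Equiv Cfsg.Agent.ShortPres.Alt Monoid

universe u_1 u_2

variable {ι : Type u_1} {ω : Type u_2} [Fintype ι] [DecidableEq ι] [Fintype ω] [DecidableEq ω] {u v : ω}

theorem cj_val {α : Type*} [Fintype α] [DecidableEq α] (π : Perm α) (g : alternatingGroup α) :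
    (cj π g : Perm α) = π * (g : Perm α) * π⁻¹ := by
  refine Equiv.ext fun w => ?_
  obtain ⟨x, rfl⟩ := π.surjective w
  simp only [Perm.mul_apply, Perm.inv_def, Equiv.symm_apply_apply]
  exact altEmb_apply _ g x

theorem cj_eq_conj {α : Type*} [Fintype α] [DecidableEq α] (t g : alternatingGroup α) :
    cj (t : Perm α) g = t * g * t⁻¹ :=
  Subtype.ext (by rw [cj_val]; rfl)

theorem flip_P {ε : Perm ω} (hg : flipOld (ι := ι) ε ∈ alternatingGroup (Old ι ω)) (e : alternatingGroup (ι ⊕ ω)) :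
    (⟨_, hg⟩ : alternatingGroup (Old ι ω)) * eP e * (⟨_, hg⟩ : alternatingGroup (Old ι ω))⁻¹ = eQ (cj (dn ε) e) := by
  rw [← cj_eq_conj]
  simp only [altEmb_comp]
  congr 2
  ext x; rcases x with x | x <;> rfl

theorem flip_Q {ε : Perm ω} (hg : flipOld (ι := ι) ε ∈ alternatingGroup (Old ι ω)) (e : alternatingGroup (ι ⊕ ω)) :
    (⟨_, hg⟩ : alternatingGroup (Old ι ω)) * eQ e * (⟨_, hg⟩ : alternatingGroup (Old ι ω))⁻¹ = eP (cj (dn ε) e) := by
  rw [← cj_eq_conj]
  simp only [altEmb_comp]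
  congr 2
  ext x; rcases x with x | x <;> rfl

theorem flip_sq {ε : Perm ω} (hε : Twist u v ε) (hg : flipOld (ι := ι) ε ∈ alternatingGroup (Old ι ω)) :
    (⟨_, hg⟩ : alternatingGroup (Old ι ω)) * ⟨_, hg⟩ = 1 :=
  Subtype.ext (Equiv.ext fun x => by rcases x with (i | i) | w <;> simp [flipOld, hε.invol])

/-- The common points alone. -/
noncomputable abbrev eW : alternatingGroup ω →* alternatingGroup (ι ⊕ ω) := altEmb Function.Embedding.inr

theorem eP_eW (d : alternatingGroup ω) : eP (ι := ι) (eW d) = eQ (eW d) := by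
  simp only [altEmb_comp]
  congr 2

theorem dn_eW (π : Perm ω) (d : alternatingGroup ω) : cj (dn π) (eW (ι := ι) d) = eW (cj π d) := by
  simp only [altEmb_comp]
  congr 2

theorem tau_gen_alt (huv : u ≠ v) {σ : Perm ω} (hσ : Twist u v σ) (K : Subgroup (Perm (All ι ω)))
    (hA : ∀ a : alternatingGroup (Old ι ω), ((iA a : alternatingGroup (All ι ω)) : Perm (All ι ω)) ∈ K) (ht : tau hσ ∈ K) (g : alternatingGroup (All ι ω)) :
    (g : Perm (All ι ω)) ∈ K := by
  have huv3 : (Sum.inl (Sum.inr u) : All ι ω) ≠ Sum.inl (Sum.inr v) := by simpa using huv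
  have huv2 : (Sum.inr u : Old ι ω) ≠ Sum.inr v := by simpa using huv
  have hg : g ∈ Subgroup.closure (Set.range (cyc huv3)) := (closure_cyc huv3).symm ▸ Subgroup.mem_top g
  suffices Subgroup.closure (Set.range (cyc huv3)) ≤ K.comap (alternatingGroup (All ι ω)).subtype from this hg
  rw [Subgroup.closure_le]
  rintro _ ⟨⟨b | i, hb⟩, rfl⟩
  · have hb' : b ≠ Sum.inr u ∧ b ≠ Sum.inr v := by simpa using hb
    show ((cyc huv3 ⟨Sum.inl b, hb⟩ : alternatingGroup (All ι ω)) : Perm (All ι ω)) ∈ K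
    rw [show cyc huv3 ⟨Sum.inl b, hb⟩ = iA (cyc huv2 ⟨b, hb'⟩) from
      (altEmb_cyc fA (u := Sum.inr u) (v := Sum.inr v) huv2 huv3 ⟨b, hb'⟩ ⟨Sum.inl b, hb⟩ rfl).symm]
    exact hA _
  · show ((cyc huv3 ⟨Sum.inr i, hb⟩ : alternatingGroup (All ι ω)) : Perm (All ι ω)) ∈ K
    rw [show cyc huv3 ⟨Sum.inr i, hb⟩ = altEmb fR (bcyc u v huv i) from
      (altEmb_cyc fR (u := Sum.inr u) (v := Sum.inr v) (by simpa using huv) huv3 ⟨Sum.inl i, by simp⟩
        ⟨Sum.inr i, hb⟩ rfl).symm,
      ← tau_tau hσ (altEmb fR _), tau_Q, cj_val]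
    exact K.mul_mem (K.mul_mem ht (hA _)) (K.inv_mem ht)

theorem sq_one_of_twist {H : Type*} [Group H] {T a : H} (ha : a ^ 3 = 1) (h : T * a * T = a) : T * T = 1 := by
  have h1 : a * T * a⁻¹ = T⁻¹ := by
    rw [mul_inv_eq_iff_eq_mul, eq_inv_mul_iff_mul_eq, ← mul_assoc, h]
  have h2 : a * T⁻¹ * a⁻¹ = T := by rw [← conj_inv, h1, inv_inv]
  have h3 : a ^ 3 * T * (a ^ 3)⁻¹ = T⁻¹ := by
    calc a ^ 3 * T * (a ^ 3)⁻¹ = a * (a * (a * T * a⁻¹) * a⁻¹) * a⁻¹ := by simp only [pow_succ, pow_zero]; group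
      _ = T⁻¹ := by rw [h1, h2, h1]
  rw [ha, one_mul, inv_one, mul_one] at h3
  exact mul_eq_one_iff_eq_inv.2 h3

theorem conj_of_gen {A H : Type*} [Group A] [Group H] (f g : A →* H) {T : H} (hT : T * T = 1) {a b : A}
    (hgen : Subgroup.closure ({a, b} : Set A) = ⊤) (ha : T * f a * T = g a) (hb : T * f b * T = g b) (e : A) :
    T * f e * T = g e := by
  have hi : T⁻¹ = T := inv_eq_of_mul_eq_one_right hT
  have h := DFunLike.congr_fun (f := (MulAut.conj T).toMonoidHom.comp f) (g := g)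
    (MonoidHom.eq_of_eqOn_dense hgen (by
      rintro x (rfl | rfl)
      · show T * f _ * T⁻¹ = _; rw [hi, ha]
      · show T * f _ * T⁻¹ = _; rw [hi, hb])) e
  rw [show T * f e * T = T * f e * T⁻¹ by rw [hi]]
  exact h

set_option maxHeartbeats 800000 in
/-- The even case: three relations. -/
theorem adjoin_alt (huv : u ≠ v) {σ : Perm ω} (hσ : Twist u v σ)
    (hg : flipOld (ι := ι) σ ∈ alternatingGroup (Old ι ω)) (ht : tau hσ ∈ alternatingGroup (All ι ω))
    (hne : Nonempty (Rest (Sum.inl (Sum.inr u) : All ι ω) (Sum.inl (Sum.inr v))))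
    (e₁ e₂ : Coprod (alternatingGroup (Old ι ω)) (FreeGroup (Fin 1)))
    (htrue : ∀ {H : Type (max u_1 u_2)} [Group H] (α : alternatingGroup (Old ι ω) →* H) (T : H), T * T = 1 →
      (∀ e, T * α (eP e) * T = α (eP (cj (dn σ) e))) → cop α T e₁ = 1 ∧ cop α T e₂ = 1)
    (hsound : ∀ {H : Type} [Group H] (α : alternatingGroup (Old ι ω) →* H) (T : H), cop α T e₁ = 1 →
      cop α T e₂ = 1 → T * T = 1 ∧ ∀ e, T * α (eP e) * T = α (eP (cj (dn σ) e)))
    {a k : ℕ} {fA' : Fin a → alternatingGroup (Old ι ω)} (hA : On fA' k) :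
    On (Fin.snoc (fun i => iA (fA' i)) (⟨_, ht⟩ : alternatingGroup (All ι ω))) (k + 3) := by
  set G : alternatingGroup (Old ι ω) := ⟨_, hg⟩ with hG
  let y : Coprod (alternatingGroup (Old ι ω)) (FreeGroup (Fin 1)) := Coprod.inr (FreeGroup.of 0)
  let l : alternatingGroup (Old ι ω) →* Coprod (alternatingGroup (Old ι ω)) (FreeGroup (Fin 1)) := Coprod.inl
  have htt : (⟨_, ht⟩ : alternatingGroup (All ι ω)) * ⟨_, ht⟩ = 1 := Subtype.ext (tau_mul_self hσ)
  have hti := inv_eq_of_mul_eq_one_right htt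
  have hcube : (iA G * ⟨_, ht⟩) ^ 3 = 1 := by
    refine Subtype.ext (Equiv.ext fun x => ?_)
    have e : ∀ b, (iA G : Perm (All ι ω)) (Sum.inl b) = Sum.inl (flipOld σ b) := altEmb_apply fA G
    have e' : ∀ i, (iA G : Perm (All ι ω)) (Sum.inr i) = Sum.inr i := fun i => altEmb_fix fA G (by
      rintro ⟨w, hw⟩; exact Sum.inl_ne_inr hw)
    have et : ∀ x, tau (ι := ι) hσ x = tauFun σ x := fun x => rfl
    rcases x with ((i | i) | w) | i <;>
      simp [pow_succ, et, tauFun, e, e', flipOld, hσ.invol]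
  have hconj : ∀ e, (⟨_, ht⟩ : alternatingGroup (All ι ω)) * iA (eP e) * ⟨_, ht⟩ = iA (eP (cj (dn σ) e)) := fun e => by
    rw [← tau_P hσ]
    nth_rewrite 2 [← hti]
    exact (cj_eq_conj _ _).symm
  refine On.adjoin hA iA _ ?_
    [e₁, e₂, (l G * y) ^ 3] ?_ ?_
  · intro K hK hKt
    refine eq_top_iff.2 fun g _ => ?_
    have := tau_gen_alt huv hσ (K.map (alternatingGroup (All ι ω)).subtype)
      (fun a => ⟨iA a, hK ⟨a, rfl⟩, rfl⟩) ⟨_, hKt, rfl⟩ g
    obtain ⟨g', hg', e⟩ := this
    exact (Subtype.ext e : g' = g) ▸ hg'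
  · intro e he
    simp only [List.mem_cons, List.not_mem_nil, or_false] at he
    have h := htrue iA (⟨_, ht⟩ : alternatingGroup (All ι ω)) htt hconj
    rcases he with rfl | rfl | rfl
    · exact h.1
    · exact h.2
    · simp only [map_mul, map_pow, y, l, cop_inl, cop_inr]
      exact hcube
  · intro H _ α T hE
    simp only [List.forall_mem_cons, List.not_mem_nil, false_imp_iff, implies_true, and_true, map_mul, map_inv,
      map_pow, y, l, cop_inl, cop_inr, mul_inv_eq_one] at hE
    obtain ⟨h1, h2, h3⟩ := hE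
    obtain ⟨hT, hP⟩ := hsound α T h1 h2
    have hTi : T⁻¹ = T := inv_eq_of_mul_eq_one_right hT
    have hGG := flip_sq hσ hg
    rw [← hG] at hGG
    have hGi : G⁻¹ = G := inv_eq_of_mul_eq_one_right hGG
    have hG2 : α G * α G = 1 := by rw [← map_mul, hGG, map_one]
    have hbraid : T * α G * T = α G * T * α G := by
      have e : (α G * T * α G) * (T * α G * T) = 1 := by
        rw [← h3, pow_three]; group
      have e' : (α G * T * α G)⁻¹ = α G * T * α G := by
        rw [_root_.mul_inv_rev, _root_.mul_inv_rev, inv_eq_of_mul_eq_one_right hG2, hTi, mul_assoc]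
      rw [← e', eq_inv_iff_mul_eq_one]
      exact mul_eq_one_comm.1 e
    have hQ : ∀ c, T * α G * T * α (eQ c) * (T * α G * T) = α (eQ (cj (dn σ) c)) := fun c => by
      have q1 : α G * α (eQ c) * α G = α (eP (cj (dn σ) c)) := by
        rw [← map_mul, ← map_mul]
        nth_rewrite 2 [← hGi]
        rw [hG, flip_Q hg]
      have q2 : α G * α (eP c) * α G = α (eQ (cj (dn σ) c)) := by
        rw [← map_mul, ← map_mul]
        nth_rewrite 2 [← hGi]
        rw [hG, flip_P hg]
      rw [hbraid]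
      calc α G * T * α G * α (eQ c) * (α G * T * α G) = α G * (T * (α G * α (eQ c) * α G) * T) * α G := by
            simp only [mul_assoc]
        _ = _ := by rw [q1, hP, dn_dn, hσ.mul_self, dn_one, q2]
    obtain ⟨φ, hφA, hφτ⟩ := exists_ext huv hσ hσ hg α T hT hP hne hQ
    refine ⟨φ, hφA, ?_⟩
    set t : alternatingGroup (All ι ω) := ⟨_, ht⟩ with htdef
    have hφt : φ t * φ t = 1 := by rw [← map_mul, htt, map_one]
    have hti' : (φ t)⁻¹ = φ t := inv_eq_of_mul_eq_one_right hφt
    have hct : ∀ g, T * φ g * T = φ t * φ g * φ t := fun g => by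
      rw [← hφτ, show tau hσ = ((t : alternatingGroup (All ι ω)) : Perm (All ι ω)) from rfl, cj_eq_conj, hti,
        map_mul, map_mul]
    set Z := φ t * T with hZ
    have hZc : ∀ g, Commute Z (φ g) := fun g => by
      show Z * φ g = φ g * Z
      calc Z * φ g = φ t * (T * φ g * T) * T := by
            rw [hZ]; simp only [mul_assoc, hT, mul_one]
        _ = φ g * Z := by rw [hct, hZ]; simp only [← mul_assoc, hφt, one_mul]
    have hTt : T * φ t = φ t * T := by
      have h := (hZc t).eq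
      rw [hZ, mul_assoc, mul_left_cancel_iff] at h
      exact h
    have hTZ : T = φ t * Z := by rw [hZ, ← mul_assoc, hφt, one_mul]
    have hZ2 : Z * Z = 1 := by
      rw [hZ]
      calc φ t * T * (φ t * T) = φ t * (T * φ t) * T := by simp only [mul_assoc]
        _ = 1 := by rw [hTt, ← mul_assoc (φ t), hφt, one_mul, hT]
    have hZ3 : Z ^ 3 = 1 := by
      have hc : Commute (φ (iA G * t)) Z := (hZc _).symm
      have : φ (iA G * t) * Z = α G * T := by
        rw [map_mul, mul_assoc, ← hTZ, ← MonoidHom.comp_apply, hφA]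
      have h' : (φ (iA G * t) * Z) ^ 3 = 1 := by rw [this, h3]
      rwa [hc.mul_pow, ← map_pow, hcube, map_one, one_mul] at h'
    have : Z = 1 := by
      rw [pow_three, hZ2, mul_one] at hZ3
      exact hZ3
    rw [hTZ, this, mul_one]

set_option maxHeartbeats 800000 in
/-- The odd case: three relations. -/
theorem adjoin_sym (huv : u ≠ v) {σ ε : Perm ω} (hσ : Twist u v σ) (hε : Twist u v ε)
    (hg : flipOld (ι := ι) ε ∈ alternatingGroup (Old ι ω)) (ht : Perm.sign (tau (ι := ι) hσ) = -1)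
    (hne : Nonempty (Rest (Sum.inl (Sum.inr u) : All ι ω) (Sum.inl (Sum.inr v))))
    {o₁ o₂ : alternatingGroup (ι ⊕ ω)} (hgen : Subgroup.closure ({o₁, o₂} : Set (alternatingGroup (ι ⊕ ω))) = ⊤)
    (hfix : cj (dn σ) o₁ = o₁) (hord : o₁ ^ 3 = 1)
    {d : alternatingGroup ω} {h : alternatingGroup (ι ⊕ ω)}
    (hgen' : Subgroup.closure ({eW d, h} : Set (alternatingGroup (ι ⊕ ω))) = ⊤)
    {a k : ℕ} {fA' : Fin a → alternatingGroup (Old ι ω)} (hA : On fA' k) :
    On (Fin.snoc (fun i => (iA (fA' i) : Perm (All ι ω))) (tau hσ)) (k + 3) := by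
  set G : alternatingGroup (Old ι ω) := ⟨_, hg⟩ with hG
  let y : Coprod (alternatingGroup (Old ι ω)) (FreeGroup (Fin 1)) := Coprod.inr (FreeGroup.of 0)
  let l : alternatingGroup (Old ι ω) →* Coprod (alternatingGroup (Old ι ω)) (FreeGroup (Fin 1)) := Coprod.inl
  let iS : alternatingGroup (Old ι ω) →* Perm (All ι ω) := (alternatingGroup (All ι ω)).subtype.comp iA
  have htt := tau_mul_self (ι := ι) hσ
  have hti : (tau (ι := ι) hσ)⁻¹ = tau hσ := inv_eq_of_mul_eq_one_right htt
  have hconj : ∀ e, tau hσ * iS (eP e) * tau hσ = iS (eP (cj (dn σ) e)) := fun e => by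
    show _ = (iA (eP (cj (dn σ) e)) : Perm (All ι ω))
    rw [← tau_P hσ, cj_val, hti]
    rfl
  refine On.adjoin hA iS _ ?_ [y * l (eP o₁) * y * (l (eP o₁))⁻¹, y * l (eP o₂) * y * (l (eP (cj (dn σ) o₂)))⁻¹,
    y * l G * y * l (eQ h) * (y * l G * y) * (l (eQ (cj (dn ε) h)))⁻¹] ?_ ?_
  · intro K hK hKt
    refine eq_top_iff.2 fun g _ => ?_
    have hev : ∀ g : alternatingGroup (All ι ω), (g : Perm (All ι ω)) ∈ K :=
      tau_gen_alt huv hσ K (fun a => hK ⟨a, rfl⟩) hKt
    rcases Int.units_eq_one_or (Perm.sign g) with e | e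
    · exact hev ⟨g, Perm.mem_alternatingGroup.2 e⟩
    · have : g * tau hσ ∈ K := hev ⟨_, Perm.mem_alternatingGroup.2 (by rw [map_mul, e, ht]; decide)⟩
      have := K.mul_mem this hKt
      rwa [mul_assoc, htt, mul_one] at this
  · intro e he
    simp only [List.mem_cons, List.not_mem_nil, or_false] at he
    rcases he with rfl | rfl | rfl <;>
      simp only [map_mul, map_inv, y, l, cop_inl, cop_inr]
    · rw [mul_inv_eq_one, hconj, hfix]
    · rw [mul_inv_eq_one, hconj]
    · rw [mul_inv_eq_one]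
      set W : Perm (All ι ω) := tau hσ * iS G * tau hσ with hW
      have hWW : W⁻¹ = W := by
        rw [hW, _root_.mul_inv_rev, _root_.mul_inv_rev, hti, ← map_inv,
          inv_eq_of_mul_eq_one_right (flip_sq hε hg), mul_assoc]
      show W * iS (eQ h) * W = _
      nth_rewrite 2 [← hWW]
      have hWa : ∀ x, W (fA (fQ x)) = fA (fQ (dn ε x)) := by
        intro x
        have e : ∀ b, (iA G : Perm (All ι ω)) (Sum.inl b) = Sum.inl (flipOld ε b) := altEmb_apply fA G
        have e' : ∀ i, (iA G : Perm (All ι ω)) (Sum.inr i) = Sum.inr i := fun i => altEmb_fix fA G (by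
          rintro ⟨w, hw⟩; exact Sum.inl_ne_inr hw)
        have et : ∀ x, tau (ι := ι) hσ x = tauFun σ x := fun x => rfl
        rcases x with i | w
        · simp [hW, iS, et, tauFun, e', fA, fQ, dn]
        · simp [hW, iS, et, tauFun, e, fA, fQ, dn, flipOld, hε.comm hσ, hσ.invol]
      show W * (iA (eQ h) : Perm (All ι ω)) * W⁻¹ = (iA (eQ (cj (dn ε) h)) : Perm (All ι ω))
      rw [altEmb_comp, altEmb_comp, altEmb_comp, mul_inv_eq_iff_eq_mul]
      refine Equiv.ext fun z => ?_
      simp only [Perm.mul_apply]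
      by_cases hz : z ∈ Set.range (fQ.trans (fA (ι := ι) (ω := ω)))
      · obtain ⟨x, rfl⟩ := hz
        rw [altEmb_apply, show W ((fQ.trans fA) x) = ((dn ε).toEmbedding.trans (fQ.trans fA)) x from hWa x]
        show W (fA (fQ _)) = _
        rw [hWa]
        exact (altEmb_apply ((dn ε).toEmbedding.trans (fQ.trans fA)) h x).symm
      · rw [altEmb_fix _ _ hz, altEmb_fix]
        rintro ⟨x, hx⟩
        exact hz ⟨x, W.injective ((hWa x).trans hx)⟩
  · intro H _ α T hE
    simp only [List.forall_mem_cons, List.not_mem_nil, false_imp_iff, implies_true, and_true, map_mul, map_inv,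
      y, l, cop_inl, cop_inr, mul_inv_eq_one] at hE
    obtain ⟨h1, h2, h3⟩ := hE
    have hT : T * T = 1 := sq_one_of_twist (by rw [← map_pow, ← map_pow, hord, map_one, map_one]) h1
    have hTi : T⁻¹ = T := inv_eq_of_mul_eq_one_right hT
    have hP : ∀ e, T * α (eP e) * T = α (eP (cj (dn σ) e)) := conj_of_gen (α.comp eP)
      ((α.comp eP).comp (cj (dn σ))) hT hgen (by simpa [hfix] using h1) h2
    have hGG := flip_sq hε hg
    rw [← hG] at hGG
    have hGi : G⁻¹ = G := inv_eq_of_mul_eq_one_right hGG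
    have hG2 : α G * α G = 1 := by rw [← map_mul, hGG, map_one]
    have hW2 : T * α G * T * (T * α G * T) = 1 := by
      calc T * α G * T * (T * α G * T) = T * (α G * (T * T) * α G) * T := by simp only [mul_assoc]
        _ = 1 := by rw [hT, mul_one, hG2, mul_one, hT]
    have hd : T * α G * T * α (eQ (eW d)) * (T * α G * T) = α (eQ (cj (dn ε) (eW d))) := by
      have q2 : ∀ c, α G * α (eP c) * α G = α (eQ (cj (dn ε) c)) := fun c => by
        rw [← map_mul, ← map_mul]
        nth_rewrite 2 [← hGi]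
        rw [hG, flip_P hg]
      calc T * α G * T * α (eQ (eW d)) * (T * α G * T)
          = T * (α G * (T * α (eP (eW d)) * T) * α G) * T := by rw [eP_eW]; simp only [mul_assoc]
        _ = T * α (eQ (cj (dn ε) (cj (dn σ) (eW d)))) * T := by rw [hP, q2]
        _ = T * α (eP (eW (cj ε (cj σ d)))) * T := by rw [dn_eW, dn_eW, eP_eW]
        _ = α (eP (cj (dn σ) (eW (cj ε (cj σ d))))) := hP _
        _ = _ := by
          rw [dn_eW σ (cj ε _), eP_eW, dn_eW ε]
          congr 3
          simp only [altEmb_comp]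
          congr 2
          ext w
          show σ (ε (σ w)) = ε w
          rw [hσ.comm hε, hσ.invol]
    have hQ := conj_of_gen (α.comp eQ) ((α.comp eQ).comp (cj (dn ε))) hW2 hgen' hd h3
    obtain ⟨φ, hφA, hφτ⟩ := exists_ext huv hσ hε hg α T hT hP hne hQ
    let ev : Perm (All ι ω) → alternatingGroup (All ι ω) := fun g =>
      if e : Perm.sign g = 1 then ⟨g, Perm.mem_alternatingGroup.2 e⟩
      else ⟨g * tau hσ, Perm.mem_alternatingGroup.2 (by
        rw [map_mul, ht, (Int.units_eq_one_or (Perm.sign g)).resolve_left e]; decide)⟩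
    let ψ : Perm (All ι ω) → H := fun g => if Perm.sign g = 1 then φ (ev g) else φ (ev g) * T
    have ev1 : ∀ g, Perm.sign g = 1 → (ev g : Perm (All ι ω)) = g := fun g e => by simp [ev, e]
    have ev2 : ∀ g, Perm.sign g = -1 → (ev g : Perm (All ι ω)) = g * tau hσ := fun g e => by simp [ev, e]
    have hmul : ∀ g g', ψ (g * g') = ψ g * ψ g' := by
      intro g g'
      have hne' : ¬ ((-1 : ℤˣ) = 1) := by decide
      rcases Int.units_eq_one_or (Perm.sign g) with e | e <;>
        rcases Int.units_eq_one_or (Perm.sign g') with e' | e'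
      · simp only [ψ, map_mul, e, e', mul_one, if_true]
        rw [← map_mul]
        congr 1
        exact Subtype.ext (by rw [Subgroup.coe_mul, ev1 g e, ev1 g' e', ev1 _ (by rw [map_mul, e, e', mul_one])])
      · simp only [ψ, map_mul, e, e', one_mul, if_true, if_neg hne']
        rw [← mul_assoc, ← map_mul]
        congr 2
        exact Subtype.ext (by rw [Subgroup.coe_mul, ev1 g e, ev2 g' e', ev2 _ (by rw [map_mul, e, e', one_mul]),
          mul_assoc])
      · simp only [ψ, map_mul, e, e', mul_one, if_true, if_neg hne']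
        calc φ (ev (g * g')) * T = φ (ev g * cj (tau hσ) (ev g')) * T := by
              congr 2
              refine Subtype.ext ?_
              rw [Subgroup.coe_mul, cj_val, ev2 g e, ev1 g' e', ev2 _ (by rw [map_mul, e, e', mul_one]), hti]
              simp only [mul_assoc]
              rw [← mul_assoc (tau hσ) (tau hσ), htt, one_mul]
          _ = _ := by
              rw [map_mul, hφτ]
              simp only [mul_assoc, hT, mul_one]
      · simp only [ψ, map_mul, e, e', neg_mul, mul_neg, one_mul, neg_neg, if_true, if_neg hne']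
        calc φ (ev (g * g')) = φ (ev g * cj (tau hσ) (ev g')) := by
              congr 1
              refine Subtype.ext ?_
              rw [Subgroup.coe_mul, cj_val, ev2 g e, ev2 g' e', ev1 _ (by rw [map_mul, e, e']; decide), hti]
              simp only [mul_assoc]
              simp only [← mul_assoc (tau hσ) (tau hσ), htt, one_mul, mul_one]
          _ = _ := by
              rw [map_mul, hφτ]
              simp only [mul_assoc]
    refine ⟨MonoidHom.mk' ψ hmul, MonoidHom.ext fun a => ?_, ?_⟩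
    · show ψ (iS a) = α a
      have e : Perm.sign (iS a) = 1 := Perm.mem_alternatingGroup.1 (iA a).2
      simp only [ψ, e, if_true]
      rw [show ev (iS a) = iA a from Subtype.ext (ev1 _ e), ← MonoidHom.comp_apply, hφA]
    · show ψ (tau hσ) = T
      simp only [ψ, ht, if_neg (show ¬ ((-1 : ℤˣ) = 1) by decide)]
      rw [show ev (tau hσ) = 1 from Subtype.ext (by rw [ev2 _ ht, htt]; rfl), map_one, one_mul]

/-- The two relations for an element fixing a generator of order three. -/
theorem adjoin_alt_fixed (huv : u ≠ v) {σ : Perm ω} (hσ : Twist u v σ)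
    (hg : flipOld (ι := ι) σ ∈ alternatingGroup (Old ι ω)) (ht : tau hσ ∈ alternatingGroup (All ι ω))
    (hne : Nonempty (Rest (Sum.inl (Sum.inr u) : All ι ω) (Sum.inl (Sum.inr v))))
    {o₁ o₂ : alternatingGroup (ι ⊕ ω)} (hgen : Subgroup.closure ({o₁, o₂} : Set (alternatingGroup (ι ⊕ ω))) = ⊤)
    (hfix : cj (dn σ) o₁ = o₁) (hord : o₁ ^ 3 = 1)
    {a k : ℕ} {fA' : Fin a → alternatingGroup (Old ι ω)} (hA : On fA' k) :
    On (Fin.snoc (fun i => iA (fA' i)) (⟨_, ht⟩ : alternatingGroup (All ι ω))) (k + 3) := by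
  let y : Coprod (alternatingGroup (Old ι ω)) (FreeGroup (Fin 1)) := Coprod.inr (FreeGroup.of 0)
  let l : alternatingGroup (Old ι ω) →* Coprod (alternatingGroup (Old ι ω)) (FreeGroup (Fin 1)) := Coprod.inl
  refine adjoin_alt huv hσ hg ht hne (y * l (eP o₁) * y * (l (eP o₁))⁻¹)
    (y * l (eP o₂) * y * (l (eP (cj (dn σ) o₂)))⁻¹) (fun α T _ hP => ?_) (fun α T h1 h2 => ?_) hA
  · simp only [map_mul, map_inv, y, l, cop_inl, cop_inr, mul_inv_eq_one]
    exact ⟨by rw [hP, hfix], hP _⟩
  · simp only [map_mul, map_inv, y, l, cop_inl, cop_inr, mul_inv_eq_one] at h1 h2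
    have hT : T * T = 1 := sq_one_of_twist (by rw [← map_pow, ← map_pow, hord, map_one, map_one]) h1
    exact ⟨hT, conj_of_gen (α.comp eP) ((α.comp eP).comp (cj (dn σ))) hT hgen (by simpa [hfix] using h1) h2⟩

/-- The two relations for an involution and a generator generating with its image. -/
theorem adjoin_alt_swapped (huv : u ≠ v) {σ : Perm ω} (hσ : Twist u v σ)
    (hg : flipOld (ι := ι) σ ∈ alternatingGroup (Old ι ω)) (ht : tau hσ ∈ alternatingGroup (All ι ω))
    (hne : Nonempty (Rest (Sum.inl (Sum.inr u) : All ι ω) (Sum.inl (Sum.inr v))))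
    {o₁ : alternatingGroup (ι ⊕ ω)}
    (hgen : Subgroup.closure ({o₁, cj (dn σ) o₁} : Set (alternatingGroup (ι ⊕ ω))) = ⊤)
    {a k : ℕ} {fA' : Fin a → alternatingGroup (Old ι ω)} (hA : On fA' k) :
    On (Fin.snoc (fun i => iA (fA' i)) (⟨_, ht⟩ : alternatingGroup (All ι ω))) (k + 3) := by
  let y : Coprod (alternatingGroup (Old ι ω)) (FreeGroup (Fin 1)) := Coprod.inr (FreeGroup.of 0)
  let l : alternatingGroup (Old ι ω) →* Coprod (alternatingGroup (Old ι ω)) (FreeGroup (Fin 1)) := Coprod.inl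
  refine adjoin_alt huv hσ hg ht hne (y * y) (y * l (eP o₁) * y * (l (eP (cj (dn σ) o₁)))⁻¹)
    (fun α T hT hP => ?_) (fun α T h1 h2 => ?_) hA
  · simp only [map_mul, map_inv, y, l, cop_inl, cop_inr, mul_inv_eq_one]
    exact ⟨hT, hP _⟩
  · simp only [map_mul, map_inv, y, l, cop_inl, cop_inr, mul_inv_eq_one] at h1 h2
    refine ⟨h1, conj_of_gen (α.comp eP) ((α.comp eP).comp (cj (dn σ))) h1 hgen h2 ?_⟩
    show T * α (eP (cj (dn σ) o₁)) * T = α (eP (cj (dn σ) (cj (dn σ) o₁)))
    rw [dn_dn, hσ.mul_self, dn_one, ← h2]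
    simp only [← mul_assoc, h1, one_mul]
    rw [mul_assoc, h1, mul_one]

end Cfsg.Agent.ShortPres.Seven
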