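import Mathlib
import Cfsg.Agent.Lib.ShortPres.AltBounded
import Cfsg.Agent.Lib.ShortPres.AltFacts

/-!
A given three-cycle is one of two generators of the alternating group.
-/

set_option autoImplicit false

namespace Cfsg.Agent.ShortPres.Seven

open Equiv Cfsg.Agent.ShortPres.Alt

theorem partner_model (l : ℕ) : ∃ g : alternatingGroup (ZMod (l + 1) ⊕ Fin 2),
    Subgroup.closure ({g, cyc (u := Sum.inr 0) (v := Sum.inr 1) (by simp) ⟨Sum.inl 0, by simp⟩} :
      Set (alternatingGroup (ZMod (l + 1) ⊕ Fin 2))) = ⊤ := by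
  classical
  let sh : Perm (ZMod (l + 1)) := Equiv.addRight 1
  let ε : Perm (Fin 2) := if Perm.sign sh = 1 then 1 else swap 0 1
  let π : Perm (ZMod (l + 1) ⊕ Fin 2) := Equiv.sumCongr sh ε
  have hπ : π ∈ alternatingGroup _ := by
    rw [Perm.mem_alternatingGroup, Perm.sign_sumCongr]
    rcases Int.units_eq_one_or (Perm.sign sh) with e | e
    · simp [ε, e]
    · simp [ε, e]
  have huv : (Sum.inr 0 : ZMod (l + 1) ⊕ Fin 2) ≠ Sum.inr 1 := by simp
  let g : alternatingGroup (ZMod (l + 1) ⊕ Fin 2) := ⟨π, hπ⟩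
  let pt : ZMod (l + 1) → Rest (Sum.inr 0 : ZMod (l + 1) ⊕ Fin 2) (Sum.inr 1) := fun k => ⟨Sum.inl k, by simp⟩
  set K := Subgroup.closure ({g, cyc huv (pt 0)} : Set (alternatingGroup (ZMod (l + 1) ⊕ Fin 2))) with hK
  have hg : g ∈ K := Subgroup.subset_closure (Set.mem_insert _ _)
  have hstep : ∀ k, cyc huv (pt k) ∈ K → cyc huv (pt (k + 1)) ∈ K := by
    intro k hk
    have h := K.mul_mem (K.mul_mem hg hk) (K.inv_mem hg)
    have e1 : (g * cyc huv (pt k) * g⁻¹ : alternatingGroup _).1 =
        swap (Sum.inl (k + 1)) (Sum.inr (ε 0)) * swap (Sum.inr (ε 0)) (Sum.inr (ε 1)) := by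
      show π * (swap (Sum.inl k) (Sum.inr 0) * swap (Sum.inr 0) (Sum.inr 1)) * π⁻¹ = _
      rw [conj_cyc]
      simp [π, sh]
    by_cases hsg : Perm.sign sh = 1
    · have : g * cyc huv (pt k) * g⁻¹ = cyc huv (pt (k + 1)) := Subtype.ext (by rw [e1]; simp [ε, hsg, cyc, pt])
      rwa [this] at h
    · have : g * cyc huv (pt k) * g⁻¹ = (cyc huv (pt (k + 1)))⁻¹ := Subtype.ext (by
        rw [e1, Subgroup.coe_inv]
        simp only [ε, if_neg hsg, swap_apply_left, swap_apply_right, cyc, pt, _root_.mul_inv_rev, swap_inv]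
        ext w
        rcases w with w | w
        · simp only [Perm.mul_apply, swap_apply_def]; split_ifs <;> simp_all
        · fin_cases w <;> simp [swap_apply_def])
      rw [this] at h
      simpa using K.inv_mem h
  have hall : ∀ k : ℕ, cyc huv (pt (k : ZMod (l + 1))) ∈ K := by
    intro k
    induction k with
    | zero => simpa using Subgroup.subset_closure (show cyc huv (pt 0) ∈ ({g, cyc huv (pt 0)} : Set _) from by simp)
    | succ k ih => simpa using hstep _ ih
  have htop : K = ⊤ := by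
    rw [eq_top_iff, ← closure_cyc huv, Subgroup.closure_le]
    rintro _ ⟨⟨w, hw, hw'⟩, rfl⟩
    rcases w with w | w
    · have := hall w.val
      rwa [ZMod.natCast_zmod_val] at this
    · fin_cases w <;> simp at hw hw'
  exact ⟨g, htop⟩

/-- An equivalence with three prescribed values. -/
theorem equiv_three {α β : Type*} [Fintype α] [DecidableEq α] [Fintype β] [DecidableEq β]
    (h : Fintype.card α = Fintype.card β) (a : Fin 3 → α) (b : Fin 3 → β) (ha : Function.Injective a)
    (hb : Function.Injective b) : ∃ e : α ≃ β, ∀ i, e (a i) = b i := by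
  obtain ⟨π, hπ⟩ := exists_send (fun i => Fintype.equivOfCardEq h (a i)) b
    ((Fintype.equivOfCardEq h).injective.comp ha) hb
  exact ⟨(Fintype.equivOfCardEq h).trans π, hπ⟩

theorem inj_three {α : Type*} {x y z : α} (h1 : x ≠ y) (h2 : x ≠ z) (h3 : y ≠ z) :
    Function.Injective ![x, y, z] := by
  intro a b h
  fin_cases a <;> fin_cases b <;> first
    | rfl
    | exact absurd h h1
    | exact absurd h h2
    | exact absurd h h3
    | exact absurd h.symm h1
    | exact absurd h.symm h2
    | exact absurd h.symm h3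

theorem altIso_cyc {α β : Type*} [Fintype α] [DecidableEq α] [Fintype β] [DecidableEq β] (e : α ≃ β)
    {u v : α} (huv : u ≠ v) (i : Rest u v) {u' v' : β} (huv' : u' ≠ v') (i' : Rest u' v')
    (hu : e u = u') (hv : e v = v') (hi : e i = i') : altIso e (cyc huv i) = cyc huv' i' := by
  subst hu hv
  exact altEmb_cyc e.toEmbedding huv huv' i i' hi

theorem exists_partner {δ : Type*} [Fintype δ] [DecidableEq δ] {u v : δ} (huv : u ≠ v) (i : Rest u v) :
    ∃ g : alternatingGroup δ, Subgroup.closure ({cyc huv i, g} : Set (alternatingGroup δ)) = ⊤ := by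
  obtain ⟨l, hl⟩ : ∃ l, Fintype.card δ = l + 1 + 2 := ⟨Fintype.card δ - 3, by
    have : ({i.1, u, v} : Finset δ).card = 3 := by
      rw [Finset.card_insert_of_notMem (by simp [i.2.1, i.2.2]), Finset.card_pair huv]
    have := Finset.card_le_univ ({i.1, u, v} : Finset δ)
    omega⟩
  obtain ⟨g, hg⟩ := partner_model l
  obtain ⟨e, he⟩ := equiv_three (α := ZMod (l + 1) ⊕ Fin 2) (β := δ) (by simp [hl])
    ![Sum.inl 0, Sum.inr 0, Sum.inr 1] ![i.1, u, v]
    (inj_three (by simp) (by simp) (by simp)) (inj_three i.2.1 i.2.2 huv)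
  refine ⟨altIso e g, ?_⟩
  rw [← altIso_cyc e (u := Sum.inr 0) (v := Sum.inr 1) (by simp) ⟨Sum.inl 0, by simp⟩ huv i (he 1) (he 2) (he 0), ← Set.image_pair,
    Set.pair_comm, ← MulEquiv.coe_toMonoidHom, ← MonoidHom.map_closure, hg]
  exact Subgroup.map_top_of_surjective _ (altIso e).surjective

end Cfsg.Agent.ShortPres.Seven
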