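import Mathlib
import Cfsg.Agent.Lib.ShortPres.Seven.Basic
import Cfsg.Agent.Lib.ShortPres.AltPiece

/-!
Two generators and four relations for the alternating group of degree an odd prime plus two.
-/

set_option autoImplicit false

namespace Cfsg.Agent.ShortPres.Seven

open Equiv Bound Alt

variable {p : ℕ} [Fact p.Prime]

theorem inr_ne : (Sum.inr 0 : ZMod p ⊕ Fin 2) ≠ Sum.inr 1 := by simp

/-- The three-cycle through zero and the two further points. -/
def gX : alternatingGroup (ZMod p ⊕ Fin 2) := cyc inr_ne ⟨Sum.inl 0, by simp⟩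

theorem sign_unit (hp : p ≠ 2) {r : (ZMod p)ˣ} (hr : ∀ x, x ∈ Subgroup.zpowers r) :
    Perm.sign (MulAction.toPermHom (ZMod p)ˣ (ZMod p) r) = -1 := by
  classical
  have hodd := (Fact.out : p.Prime).odd_of_ne_two hp
  set π := MulAction.toPermHom (ZMod p)ˣ (ZMod p) r
  have hπ : ∀ w, π w = (r : ZMod p) * w := fun w => rfl
  have hr1 : r ≠ 1 := fun h => by
    have hord : orderOf r = p - 1 := by
      rw [orderOf_eq_card_of_forall_mem_zpowers hr, Nat.card_eq_fintype_card, ZMod.card_units]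
    rw [h, orderOf_one] at hord
    have := (Fact.out : p.Prime).two_le
    omega
  have hsupp : π.support = Finset.univ.erase 0 := by
    ext w
    simp only [Perm.mem_support, hπ, Finset.mem_erase, Finset.mem_univ, and_true, ne_eq]
    constructor
    · intro h hw; exact h (by rw [hw, mul_zero])
    · intro hw h
      exact hr1 (Units.ext (mul_right_cancel₀ hw (h.trans (one_mul w).symm)))
  have hcyc : π.IsCycle := by
    refine ⟨1, by rw [hπ, mul_one]; exact fun h => hr1 (Units.ext h), fun y hy => ?_⟩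
    rw [hπ] at hy
    have hy0 : y ≠ 0 := fun h => hy (by rw [h, mul_zero])
    obtain ⟨i, hi⟩ := Subgroup.mem_zpowers_iff.1 (hr (Units.mk0 y hy0))
    refine ⟨i, ?_⟩
    rw [show π ^ i = MulAction.toPermHom (ZMod p)ˣ (ZMod p) (r ^ i) from (map_zpow _ r i).symm, hi]
    exact mul_one y
  rw [hcyc.sign, hsupp, Finset.card_erase_of_mem (Finset.mem_univ _), Finset.card_univ, ZMod.card]
  obtain ⟨j, rfl⟩ := hodd
  rw [show 2 * j + 1 - 1 = 2 * j by omega, pow_mul, neg_one_sq, one_pow]

set_option maxHeartbeats 1000000 in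
/-- Four relations suffice. -/
theorem exists_piece' (hp2 : p ≠ 2) : ∃ ga : alternatingGroup (ZMod p ⊕ Fin 2),
    (ga : Perm (ZMod p ⊕ Fin 2)) = Equiv.sumCongr (Equiv.addRight (1 : ZMod p)) 1 ∧
      On ![ga, (gX : alternatingGroup (ZMod p ⊕ Fin 2))] 4 := by
  classical
  have hpp : p.Prime := Fact.out
  obtain ⟨r, hr⟩ := IsCyclic.exists_generator (α := (ZMod p)ˣ)
  have hord : orderOf r = p - 1 := by
    rw [orderOf_eq_card_of_forall_mem_zpowers hr, Nat.card_eq_fintype_card, ZMod.card_units]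
  set R1 : ZMod p := (r : ZMod p) with hR1
  have hR : R1 ≠ 1 := fun h => by
    have h' : r = 1 := Units.ext h
    rw [h', orderOf_one] at hord
    have := hpp.two_le
    omega
  set s := ((R1 - 1)⁻¹ : ZMod p).val with hs
  have hs1 : R1 * (s : ZMod p) = (s : ZMod p) + 1 := by
    rw [hs, ZMod.natCast_zmod_val]
    have h := mul_inv_cancel₀ (sub_ne_zero.2 hR)
    linear_combination h
  have hs0 : (s : ZMod p) ≠ 0 := fun h => by simp [h] at hs1
  have huv : (Sum.inr 0 : ZMod p ⊕ Fin 2) ≠ Sum.inr 1 := inr_ne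
  let pt : ZMod p → Rest (Sum.inr 0 : ZMod p ⊕ Fin 2) (Sum.inr 1) := fun k => ⟨Sum.inl k, by simp⟩
  have hpt : Function.Bijective pt := by
    refine ⟨fun k l h => by simpa [pt] using h, ?_⟩
    rintro ⟨k | i, hi, hi'⟩
    · exact ⟨k, rfl⟩
    · fin_cases i <;> simp at hi hi'
  have hA : Equiv.sumCongr (Equiv.addRight (1 : ZMod p)) (1 : Perm (Fin 2)) ∈ alternatingGroup _ := by
    rw [Perm.mem_alternatingGroup, Perm.sign_sumCongr, map_one, mul_one]
    exact sign_shift hp2
  let Mu : (ZMod p)ˣ →* Perm (ZMod p) := MulAction.toPermHom _ _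
  have hC : Equiv.sumCongr (Mu r) (swap (0 : Fin 2) 1) ∈ alternatingGroup _ := by
    rw [Perm.mem_alternatingGroup, Perm.sign_sumCongr, sign_unit hp2 hr, Perm.sign_swap (by decide)]
    decide
  let ga : alternatingGroup (ZMod p ⊕ Fin 2) := ⟨_, hA⟩
  let gc : alternatingGroup (ZMod p ⊕ Fin 2) := ⟨_, hC⟩
  let gx := cyc huv (pt 0)
  have ga_pow : ∀ n : ℕ, ((ga ^ n : alternatingGroup (ZMod p ⊕ Fin 2)) : Perm (ZMod p ⊕ Fin 2)) =
      Equiv.sumCongr (Equiv.addRight (n : ZMod p)) 1 := by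
    intro n
    induction n with
    | zero => ext w; rcases w with w | w <;> simp
    | succ n ih =>
      rw [pow_succ', Subgroup.coe_mul, ih]
      ext w; rcases w with w | w <;> simp [ga, add_assoc]
  have hgxi : ∀ k, xi ga gx k = cyc huv (pt k) := by
    intro k
    rw [xi, mul_inv_eq_iff_eq_mul]
    refine Subtype.ext ?_
    rw [Subgroup.coe_mul, Subgroup.coe_mul, pw, ga_pow, ZMod.natCast_zmod_val, ← mul_inv_eq_iff_eq_mul]
    show _ * (swap _ _ * swap _ _) * _ = swap _ _ * swap _ _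
    rw [conj_cyc]
    simp [pt]
  let gword : FreeGroup (ZMod p) →* alternatingGroup (ZMod p ⊕ Fin 2) := FreeGroup.lift fun k => cyc huv (pt k)
  have hgw : Function.Surjective gword := by
    rw [← MonoidHom.range_eq_top, FreeGroup.range_lift_eq_closure]
    rw [show Set.range (fun k => cyc huv (pt k)) = Set.range (cyc huv) from
      (hpt.2.range_comp (cyc huv))]
    exact closure_cyc huv
  obtain ⟨wc, hwc⟩ := hgw gc
  let a : FreeGroup (Fin 2) := FreeGroup.of 0
  let x : FreeGroup (Fin 2) := FreeGroup.of 1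
  let c : FreeGroup (Fin 2) := FreeGroup.lift (xi a x : ZMod p → _) wc
  let R : List (FreeGroup (Fin 2)) :=
    [a ^ p * (x ^ 3)⁻¹, c * a ^ s * c⁻¹ * (a ^ (s + 1))⁻¹, c * x * c⁻¹ * x, (x * xi a x (1 : ZMod p)) ^ 2]
  have heval : ∀ {H : Type} [Group H] (f : Fin 2 → H) (w : FreeGroup (ZMod p)),
      FreeGroup.lift f (FreeGroup.lift (xi (FreeGroup.of (0 : Fin 2)) (FreeGroup.of 1) : ZMod p → _) w) =
        FreeGroup.lift (xi (f 0) (f 1)) w := by
    intro H _ f w
    exact DFunLike.congr_fun (show (FreeGroup.lift f).comp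
        (FreeGroup.lift (xi (FreeGroup.of (0 : Fin 2)) (FreeGroup.of 1) : ZMod p → _)) =
      FreeGroup.lift (xi (f 0) (f 1)) from FreeGroup.ext_hom _ _ fun k => by simp [map_xi]) w
  have hg : (xi ga gx : ZMod p → _) = fun k => cyc huv (pt k) := funext hgxi
  have hgaconj : ∀ k, ga * cyc huv (pt k) * ga⁻¹ = cyc huv (pt (k + 1)) := by
    intro k
    refine Subtype.ext ?_
    show _ * (swap _ _ * swap _ _) * _ = swap _ _ * swap _ _
    rw [Subgroup.coe_inv, conj_cyc]
    simp [ga, pt]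
  have hgcs : gc * ga ^ s * gc⁻¹ = ga ^ (s + 1) := by
    rw [mul_inv_eq_iff_eq_mul]
    refine Subtype.ext ?_
    rw [Subgroup.coe_mul, Subgroup.coe_mul, ga_pow, ga_pow]
    ext w; rcases w with w | w
    · simp [gc, Mu, Units.smul_def]
      simp only [hR1] at hs1
      linear_combination hs1
    · simp [gc]
  refine ⟨ga, rfl, On.of_universal ![ga, gx] R (by simp [R]) ?_ ?_ ?_⟩
  · intro w hw
    simp only [R, List.mem_cons, List.not_mem_nil, or_false] at hw
    rcases hw with rfl | rfl | rfl | rfl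
    all_goals simp only [map_mul, map_inv, map_pow, map_xi, heval, a, c, x, FreeGroup.lift_apply_of,
      Matrix.cons_val_zero, Matrix.cons_val_one]
    · rw [mul_inv_eq_one, (rels_cyc huv).cube]
      refine Subtype.ext ?_
      rw [ga_pow, ZMod.natCast_self]
      ext w; rcases w with w | w <;> simp
    · rw [hg, mul_inv_eq_one]
      show gword wc * ga ^ s * (gword wc)⁻¹ = ga ^ (s + 1)
      rw [hwc, hgcs]
    · rw [hg]
      show gword wc * gx * (gword wc)⁻¹ * gx = 1
      rw [hwc, mul_eq_one_iff_eq_inv]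
      refine Subtype.ext ?_
      show _ * (swap _ _ * swap _ _) * _ = (swap _ _ * swap _ _)⁻¹
      rw [Subgroup.coe_inv, conj_cyc]
      simp [gc, pt, Mu, Units.smul_def, _root_.mul_inv_rev, Equiv.swap_comm]
      ext w
      rcases w with w | w
      · simp [swap_apply_def]; split_ifs <;> simp_all
      · fin_cases w <;> simp [swap_apply_def]
    · rw [hgxi 1]; exact (rels_cyc huv).pair _ _ fun h => zero_ne_one (hpt.1 h)
  · rw [← MonoidHom.range_eq_top, eq_top_iff, ← closure_cyc huv, Subgroup.closure_le]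
    rintro _ ⟨i, rfl⟩
    obtain ⟨k, rfl⟩ := hpt.2 i
    rw [← hgxi]
    exact ⟨xi a x k, by rw [map_xi]; simp [a, x]⟩
  · intro H _ h hR'
    simp only [R, List.forall_mem_cons, List.not_mem_nil, false_imp_iff, implies_true, and_true, map_mul, map_inv,
      map_pow, map_xi, heval, a, c, x, FreeGroup.lift_apply_of] at hR'
    obtain ⟨h1, h2, h3, h6⟩ := hR'
    rw [mul_inv_eq_one] at h1 h2
    set A := h 0
    set X := h 1
    set C := FreeGroup.lift (xi A X : ZMod p → H) wc with hCdef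
    have hzA : Commute (A ^ p) A := (Commute.refl A).pow_left p
    have hzX : Commute (A ^ p) X := by rw [h1]; exact (Commute.refl X).pow_left 3
    have hzxi : ∀ k : ZMod p, Commute (A ^ p) (xi A X k) := fun k =>
      ((hzA.pow_right _).mul_right hzX).mul_right (hzA.pow_right _).inv_right
    have hzC : Commute (A ^ p) C := by
      have : C ∈ Subgroup.centralizer {A ^ p} := by
        have hle : (FreeGroup.lift (xi A X : ZMod p → H)).range ≤ Subgroup.centralizer {A ^ p} := by
          rw [FreeGroup.range_lift_eq_closure, Subgroup.closure_le]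
          rintro _ ⟨k, rfl⟩
          exact Subgroup.mem_centralizer_singleton_iff.2 (hzxi k).eq.symm
        exact hle ⟨wc, rfl⟩
      exact (Subgroup.mem_centralizer_singleton_iff.1 this).symm
    have hAp : A ^ p = 1 := by
      have hcA : C * A ^ p * C⁻¹ = A ^ p := by rw [← hzC.eq, mul_inv_cancel_right]
      have e : (A ^ p) ^ s = (A ^ p) ^ (s + 1) := by
        calc (A ^ p) ^ s = (C * A ^ p * C⁻¹) ^ s := by rw [hcA]
          _ = (C * A ^ s * C⁻¹) ^ p := by rw [conj_pow, conj_pow, ← pow_mul, ← pow_mul, Nat.mul_comm]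
          _ = _ := by rw [h2, ← pow_mul, ← pow_mul, Nat.mul_comm]
      rw [pow_succ, left_eq_mul] at e
      exact e
    have hcube : X ^ 3 = 1 := h1.symm.trans hAp
    have hCA : ∀ k : ZMod p, C * pw A k * C⁻¹ = pw A (R1 * k) := by
      intro k
      obtain ⟨j, rfl⟩ : ∃ j : ℕ, (s : ZMod p) * (j : ZMod p) = k := ⟨(k / (s : ZMod p)).val, by
        rw [show (((k / (s : ZMod p)).val : ℕ) : ZMod p) = k / (s : ZMod p) from ZMod.natCast_zmod_val _,
          mul_div_cancel₀ k hs0]⟩
      rw [← mul_assoc, hs1, ← Nat.cast_one, ← Nat.cast_add, ← Nat.cast_mul, ← Nat.cast_mul, pw_natCast hAp,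
        pw_natCast hAp, pow_mul, pow_mul, ← conj_pow, h2]
    have hCx : C * X * C⁻¹ = X⁻¹ := eq_inv_of_mul_eq_one_left h3
    have hCxi : ∀ k : ZMod p, C * xi A X k * C⁻¹ = (xi A X (R1 * k))⁻¹ := fun k => by
      calc C * xi A X k * C⁻¹ = (C * pw A k * C⁻¹) * (C * X * C⁻¹) * (C * pw A k * C⁻¹)⁻¹ := by
            rw [xi]; group
        _ = _ := by rw [hCA, hCx, xi]; group
    have hxi0 : xi A X (0 : ZMod p) = X := by simp [xi, pw]
    have hshift : ∀ i k : ZMod p, pw A i * xi A X k * (pw A i)⁻¹ = xi A X (i + k) := fun i k => by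
      simp only [xi, pw_add hAp]; group
    have hpair0 : ∀ d : ZMod p, d ≠ 0 → (X * xi A X d) ^ 2 = 1 := by
      intro d hd
      obtain ⟨n, hn⟩ := mem_powers_iff_mem_zpowers.2 (hr (Units.mk0 d hd))
      have hd' : d = (r : ZMod p) ^ n := by
        rw [← Units.val_pow_eq_pow_val]; exact (congrArg Units.val hn).symm
      subst hd'
      clear hn hd
      induction n with
      | zero => simpa using h6
      | succ n ih =>
        have e : C * ((X * xi A X ((r : ZMod p) ^ n)) ^ 2) * C⁻¹ = 1 := by rw [ih]; group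
        rw [← conj_pow, show C * (X * xi A X ((r : ZMod p) ^ n)) * C⁻¹ =
          (C * X * C⁻¹) * (C * xi A X ((r : ZMod p) ^ n) * C⁻¹) by group, hCx, hCxi, ← _root_.mul_inv_rev,
          inv_pow, inv_eq_one, hR1, ← pow_succ'] at e
        calc (X * xi A X ((r : ZMod p) ^ (n + 1))) ^ 2
            = X * (xi A X ((r : ZMod p) ^ (n + 1)) * X) ^ 2 * X⁻¹ := by simp only [sq]; group
          _ = 1 := by rw [e]; group
    obtain ⟨e, he⟩ : ∃ e : Rest (Sum.inr 0 : ZMod p ⊕ Fin 2) (Sum.inr 1) → ZMod p, ∀ k, e (pt k) = k :=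
      ⟨(Equiv.ofBijective pt hpt).symm, fun k => (Equiv.ofBijective pt hpt).symm_apply_apply k⟩
    have hx : Rels fun i => xi A X (e i) := by
      refine ⟨fun i => ?_, fun i j hij => ?_⟩
      · show (pw A (e i) * X * (pw A (e i))⁻¹) ^ 3 = 1
        rw [conj_pow, hcube, mul_one, mul_inv_cancel]
      · have hne : e i ≠ e j := fun h => hij (by
          obtain ⟨ki, rfl⟩ := hpt.2 i; obtain ⟨kj, rfl⟩ := hpt.2 j; rw [he, he] at h; rw [h])
        have := congrArg (fun g => pw A (e i) * g * (pw A (e i))⁻¹) (hpair0 (e j - e i) (sub_ne_zero.2 hne.symm))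
        simp only [mul_one, mul_inv_cancel] at this
        rw [← conj_pow, show pw A (e i) * (X * xi A X (e j - e i)) * (pw A (e i))⁻¹ =
          (pw A (e i) * X * (pw A (e i))⁻¹) * (pw A (e i) * xi A X (e j - e i) * (pw A (e i))⁻¹) by group,
          hshift, add_sub_cancel] at this
        exact this
    obtain ⟨Φ, hΦ⟩ := exists_hom huv ⟨pt 0⟩ hx
    have hΦw : ∀ w, Φ (gword w) = FreeGroup.lift (xi A X : ZMod p → H) w := fun w =>
      DFunLike.congr_fun (show Φ.comp gword = FreeGroup.lift (xi A X) from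
        FreeGroup.ext_hom _ _ fun k => by simp [gword, hΦ, he]) w
    have hΦc : Φ gc = C := by rw [← hwc, hΦw]
    have hAΦ : ∀ g, A * Φ g * A⁻¹ = Φ (ga * g * ga⁻¹) := by
      intro g
      refine DFunLike.congr_fun (f := (MulAut.conj A).toMonoidHom.comp Φ)
        (g := Φ.comp (MulAut.conj ga).toMonoidHom) (MonoidHom.eq_of_eqOn_dense (closure_cyc huv) ?_) g
      rintro _ ⟨i, rfl⟩
      obtain ⟨k, rfl⟩ := hpt.2 i
      show A * Φ (cyc huv (pt k)) * A⁻¹ = Φ (ga * cyc huv (pt k) * ga⁻¹)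
      rw [hgaconj, hΦ, hΦ, he, he, add_comm k 1, ← hshift, ← Nat.cast_one, pw_natCast hAp, pow_one]
    set z := (Φ ga)⁻¹ * A with hz
    have hzcomm : ∀ g, Commute z (Φ g) := fun g => by
      show z * Φ g = Φ g * z
      have h' : Φ (ga * g * ga⁻¹) = Φ ga * Φ g * (Φ ga)⁻¹ := by rw [map_mul, map_mul, map_inv]
      rw [← hAΦ g] at h'
      calc z * Φ g = (Φ ga)⁻¹ * (A * Φ g * A⁻¹) * A := by rw [hz]; group
        _ = Φ g * z := by rw [h', hz]; group
    have hAz : A = Φ ga * z := by rw [hz]; group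
    have hz1 : z = 1 := by
      have h2' : C * A ^ s * C⁻¹ = A ^ (s + 1) := h2
      rw [hAz, ((hzcomm ga).symm).mul_pow, ((hzcomm ga).symm).mul_pow, ← mul_assoc, mul_assoc (C * _),
        show z ^ s * C⁻¹ = C⁻¹ * z ^ s from by
          rw [← hΦc]; exact (((hzcomm gc).pow_left s).inv_right).eq,
        ← mul_assoc, ← map_pow, ← hΦc, ← map_inv, ← map_mul, ← map_mul, hgcs, map_pow] at h2'
      have h3' := mul_left_cancel h2'
      rw [pow_succ, left_eq_mul] at h3'
      exact h3'
    refine ⟨Φ, fun i => ?_⟩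
    fin_cases i
    · show Φ ga = A
      rw [hAz, hz1, mul_one]
    · show Φ gx = X
      rw [hΦ, he, hxi0]

theorem exists_piece (hp2 : p ≠ 2) : ∃ ga, On ![ga, (gX : alternatingGroup (ZMod p ⊕ Fin 2))] 4 :=
  (exists_piece' hp2).elim fun ga h => ⟨ga, h.2⟩

end Cfsg.Agent.ShortPres.Seven
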