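import Mathlib

/-!
A prime between two and three times a number, by the argument of Erdős for Bertrand's postulate.
-/

set_option autoImplicit false

namespace Cfsg.Agent.ShortPres.Seven.Primes

open Nat

theorem factorization_le {N p : ℕ} (hp : p.Prime) (h1 : N / 2 < p) (h2 : p ≤ 2 * N) (h3 : sqrt (3 * N) < p) :
    (Nat.choose (3 * N) N).factorization p ≤ (Nat.choose (N + N / 2) N).factorization p := by
  have hv : (Nat.choose (3 * N) N).factorization p ≤ 1 := factorization_choose_le_one (sqrt_lt'.1 h3)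
  rcases Nat.eq_zero_or_pos ((Nat.choose (3 * N) N).factorization p) with h | h
  · omega
  refine hv.trans ?_
  have hb : 3 * N < p ^ 2 := sqrt_lt'.1 h3
  have hlog : ∀ m, m ≤ 3 * N → log p m < 2 := fun m hm => log_lt_of_lt_pow' two_ne_zero (by omega)
  rw [factorization_choose hp (by omega) (hlog _ le_rfl)] at h
  rw [factorization_choose hp (by omega) (hlog _ (by omega))]
  have hI : Finset.Ico 1 2 = {1} := by decide
  rw [hI, Finset.filter_singleton] at h ⊢
  simp only [pow_one] at h ⊢
  split_ifs at h with hc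
  · rw [if_pos, Finset.card_singleton]
    rw [show N + N / 2 - N = N / 2 by omega, Nat.mod_eq_of_lt h1]
    rw [show 3 * N - N = 2 * N by omega] at hc
    rcases Nat.lt_or_ge N p with hN | hN
    · rw [Nat.mod_eq_of_lt hN] at hc ⊢
      rw [Nat.mod_eq_sub_mod h2, Nat.mod_eq_of_lt (by omega)] at hc
      omega
    · rw [Nat.mod_eq_sub_mod hN, Nat.mod_eq_of_lt (by omega)] at hc ⊢
      rw [Nat.mod_eq_sub_mod (by omega : 2 * N ≥ p)] at hc
      rw [Nat.mod_eq_sub_mod (by omega : 2 * N - p ≥ p)] at hc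
      by_cases hh : 2 * N - p - p < p
      · rw [Nat.mod_eq_of_lt hh] at hc
        omega
      · rw [Nat.mod_eq_sub_mod (by omega), Nat.mod_eq_of_lt (by omega)] at hc
        omega
  · simp at h

theorem choose_le (N : ℕ) (hB : ((Finset.Ioc (2 * N) (3 * N)).filter Nat.Prime).card ≤ 2) (hN : 3 ≤ N) :
    Nat.choose (3 * N) N ≤ (3 * N) ^ (sqrt (3 * N) + 2) * 4 ^ (N / 2) * Nat.choose (N + N / 2) N := by
  set C := Nat.choose (3 * N) N with hCdef
  set D := Nat.choose (N + N / 2) N with hDdef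
  have n1 : 1 ≤ 3 * N := by omega
  let f : ℕ → ℕ := fun x => x ^ C.factorization x
  have hfle : ∀ p, f p ≤ 3 * N := fun p => pow_factorization_choose_le (by omega)
  have hsplit : ∏ p ∈ Finset.range (3 * N + 1), f p = C := Nat.prod_pow_factorization_choose (3 * N) N (by omega)
  let g : ℕ → ℕ := fun x => x ^ D.factorization x
  have hg : ∏ p ∈ Finset.range (N + N / 2 + 1), g p = D := Nat.prod_pow_factorization_choose _ N (by omega)
  have hg1 : ∀ p, 1 ≤ g p := fun p => by
    rcases Nat.eq_zero_or_pos p with rfl | hp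
    · simp [g]
    · exact Nat.one_le_pow _ _ hp
  have hg' : ∀ S : Finset ℕ, ∏ p ∈ S, g p ≤ D := by
    intro S
    rw [← Finset.prod_filter_of_ne (p := fun p => p < N + N / 2 + 1) (fun p _ h => ?_)]
    · exact (Finset.prod_le_prod_of_subset_of_one_le' (fun p hp => Finset.mem_range.2 (Finset.mem_filter.1 hp).2)
        (fun p _ _ => hg1 p)).trans hg.le
    · by_contra hc
      refine h ?_
      simp only [g, D, factorization_choose_eq_zero_of_lt (by omega : N + N / 2 < p), pow_zero]
  let T := (Finset.range (3 * N + 1)).filter Nat.Prime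
  have hT : ∏ p ∈ T, f p = C := by
    rw [← hsplit]
    refine Finset.prod_filter_of_ne fun p _ h => ?_
    by_contra hp
    refine h ?_
    simp only [f, factorization_eq_zero_of_not_prime _ hp, pow_zero]
  let A := T.filter (· ≤ sqrt (3 * N))
  let B := (T.filter fun p => ¬ p ≤ sqrt (3 * N)).filter (· ≤ N / 2)
  let E := ((T.filter fun p => ¬ p ≤ sqrt (3 * N)).filter fun p => ¬ p ≤ N / 2).filter (· ≤ 2 * N)
  let F := ((T.filter fun p => ¬ p ≤ sqrt (3 * N)).filter fun p => ¬ p ≤ N / 2).filter fun p => ¬ p ≤ 2 * N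
  have hC : C = (∏ p ∈ A, f p) * ((∏ p ∈ B, f p) * ((∏ p ∈ E, f p) * ∏ p ∈ F, f p)) := by
    rw [Finset.prod_filter_mul_prod_filter_not, Finset.prod_filter_mul_prod_filter_not,
      Finset.prod_filter_mul_prod_filter_not, hT]
  have bA : ∏ p ∈ A, f p ≤ (3 * N) ^ sqrt (3 * N) := by
    refine (Finset.prod_le_prod' fun p _ => hfle p).trans ?_
    rw [Finset.prod_const]
    refine Nat.pow_le_pow_right n1 ((Finset.card_le_card fun x hx => ?_).trans
      (Nat.card_Icc 1 (sqrt (3 * N))).le |>.trans (by omega))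
    obtain ⟨h1, h2⟩ := Finset.mem_filter.1 hx
    exact Finset.mem_Icc.2 ⟨(Finset.mem_filter.1 h1).2.one_lt.le, h2⟩
  have bB : ∏ p ∈ B, f p ≤ 4 ^ (N / 2) := by
    refine (Finset.prod_le_prod' fun p hp => (?_ : f p ≤ p)).trans (le_trans ?_ (primorial_le_four_pow (N / 2)))
    · simp only [B, T, Finset.mem_filter] at hp
      refine (Nat.pow_le_pow_right hp.1.1.2.pos ?_).trans (pow_one p).le
      exact factorization_choose_le_one (sqrt_lt'.1 (not_le.1 hp.1.2))
    · refine Finset.prod_le_prod_of_subset_of_one_le' (fun p hp => ?_) fun p hp _ =>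
        (Finset.mem_filter.1 hp).2.one_lt.le
      simp only [B, T, Finset.mem_filter, Finset.mem_range] at hp ⊢
      exact ⟨by omega, hp.1.1.2⟩
  have bE : ∏ p ∈ E, f p ≤ D := by
    refine (Finset.prod_le_prod' fun p hp => (?_ : f p ≤ g p)).trans (hg' E)
    simp only [E, T, Finset.mem_filter] at hp
    exact Nat.pow_le_pow_right hp.1.1.1.2.pos
      (factorization_le hp.1.1.1.2 (not_le.1 hp.1.2) hp.2 (not_le.1 hp.1.1.2))
  have bF : ∏ p ∈ F, f p ≤ (3 * N) ^ 2 := by
    refine (Finset.prod_le_prod' fun p _ => hfle p).trans ?_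
    rw [Finset.prod_const]
    refine Nat.pow_le_pow_right n1 ((Finset.card_le_card fun x hx => ?_).trans hB)
    simp only [F, T, Finset.mem_filter, Finset.mem_range, Finset.mem_Ioc] at hx ⊢
    exact ⟨⟨by omega, by omega⟩, hx.1.1.1.2⟩
  calc C = _ := hC
    _ ≤ (3 * N) ^ sqrt (3 * N) * (4 ^ (N / 2) * (D * (3 * N) ^ 2)) :=
        Nat.mul_le_mul bA (Nat.mul_le_mul bB (Nat.mul_le_mul bE bF))
    _ = _ := by rw [pow_add]; ring

theorem desc_le {m n a b k : ℕ} (h : ∀ i < k, a * (n - i) ≤ b * (m - i)) :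
    a ^ k * n.descFactorial k ≤ b ^ k * m.descFactorial k := by
  induction k with
  | zero => simp
  | succ k ih =>
    rw [Nat.descFactorial_succ, Nat.descFactorial_succ, pow_succ, pow_succ]
    calc a ^ k * a * ((n - k) * n.descFactorial k) = (a * (n - k)) * (a ^ k * n.descFactorial k) := by ring
      _ ≤ (b * (m - k)) * (b ^ k * m.descFactorial k) :=
          Nat.mul_le_mul (h k (by omega)) (ih fun i hi => h i (by omega))
      _ = _ := by ring

theorem choose_ge (N : ℕ) :
    2 ^ ((N + 1) / 2) * 5 ^ (N / 2) * Nat.choose (N + N / 2) N ≤ 2 ^ (N / 2) * Nat.choose (3 * N) N := by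
  set h := (N + 1) / 2 with hh
  set q := N / 2 with hq
  have hN : N = q + h := by omega
  have e : ∀ n, n.descFactorial N = (n - h).descFactorial q * n.descFactorial h := fun n => by
    have := Nat.descFactorial_mul_descFactorial (k := h) (m := N) (n := n) (by omega)
    rw [show N - h = q by omega] at this
    exact this.symm
  have h1 : 2 ^ h * (N + N / 2).descFactorial h ≤ 1 ^ h * (3 * N).descFactorial h :=
    desc_le fun i hi => by omega
  have h2 : 5 ^ q * (N + N / 2 - h).descFactorial q ≤ 2 ^ q * (3 * N - h).descFactorial q :=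
    desc_le fun i hi => by omega
  rw [one_pow, one_mul] at h1
  refine Nat.le_of_mul_le_mul_left ?_ (Nat.factorial_pos N)
  calc N ! * (2 ^ h * 5 ^ q * Nat.choose (N + q) N)
      = 2 ^ h * 5 ^ q * (N ! * Nat.choose (N + q) N) := by ring
    _ = (2 ^ h * (N + N / 2).descFactorial h) * (5 ^ q * (N + N / 2 - h).descFactorial q) := by
        rw [← Nat.descFactorial_eq_factorial_mul_choose, e, ← hq]; ring
    _ ≤ (3 * N).descFactorial h * (2 ^ q * (3 * N - h).descFactorial q) := Nat.mul_le_mul h1 h2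
    _ = 2 ^ q * (N ! * Nat.choose (3 * N) N) := by
        rw [← Nat.descFactorial_eq_factorial_mul_choose, e]; ring
    _ = _ := by ring

theorem fifty_mul_le {j : ℕ} (hj : 9 ≤ j) : 50 * (j + 1) + 1 ≤ 2 ^ j := by
  induction j, hj using Nat.le_induction with
  | base => norm_num
  | succ j _ ih => rw [pow_succ]; omega

theorem main_inequality {N : ℕ} (hN : 87500 ≤ N) :
    (3 * N) ^ (sqrt (3 * N) + 2) * 4 ^ (N / 2) < 5 ^ (N / 2) := by
  set s := sqrt (3 * N) with hs
  set j := Nat.log 2 (s + 1) with hj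
  have hs512 : 512 ≤ s := Nat.le_sqrt.2 (by omega)
  have hj9 : 9 ≤ j := Nat.le_log_of_pow_le one_lt_two (by omega)
  have hj50 : 50 * (j + 1) ≤ s := by
    have h1 := fifty_mul_le hj9
    have h2 : 2 ^ j ≤ s + 1 := Nat.pow_log_le_self 2 (by omega)
    omega
  have h3n : 3 * N ≤ 2 ^ (2 * (j + 1)) := by
    have h1 : s + 1 < 2 ^ (j + 1) := Nat.lt_pow_succ_log_self one_lt_two _
    have h2 : 3 * N < (s + 1) * (s + 1) := Nat.lt_succ_sqrt (3 * N)
    have h3 : (s + 1) * (s + 1) ≤ 2 ^ (j + 1) * 2 ^ (j + 1) := Nat.mul_le_mul h1.le h1.le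
    rw [← pow_add] at h3
    rw [two_mul (j + 1)]
    omega
  have hsq : s * s ≤ 3 * N := Nat.sqrt_le (3 * N)
  set q := N / 2 with hq
  set r := q / 7 with hr
  have hexp : (j + 1) * (s + 2) < r := by
    have h1 : 50 * ((j + 1) * (s + 2)) ≤ s * (s + 2) := by
      calc 50 * ((j + 1) * (s + 2)) = 50 * (j + 1) * (s + 2) := by ring
        _ ≤ _ := Nat.mul_le_mul_right _ hj50
    have h2 : s * (s + 2) = s * s + 2 * s := by ring
    have h3 : 512 * s ≤ s * s := Nat.mul_le_mul_right s hs512
    omega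
  have h5 : 4 ^ q * 4 ^ r ≤ 5 ^ q := by
    obtain ⟨t, ht⟩ : ∃ t, q = 7 * r + t := ⟨q % 7, by omega⟩
    rw [ht, pow_add, pow_add, pow_mul, pow_mul, mul_right_comm, ← mul_pow]
    exact Nat.mul_le_mul (Nat.pow_le_pow_left (by norm_num) r) (Nat.pow_le_pow_left (by norm_num) t)
  calc (3 * N) ^ (s + 2) * 4 ^ q ≤ (2 ^ (2 * (j + 1))) ^ (s + 2) * 4 ^ q :=
        Nat.mul_le_mul_right _ (Nat.pow_le_pow_left h3n _)
    _ = 4 ^ ((j + 1) * (s + 2)) * 4 ^ q := by rw [← pow_mul, mul_assoc 2, pow_mul]; norm_num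
    _ < 4 ^ r * 4 ^ q := Nat.mul_lt_mul_of_pos_right (Nat.pow_lt_pow_right (by norm_num) hexp) (by positivity)
    _ ≤ 5 ^ q := by rw [mul_comm]; exact h5

theorem three_primes {N : ℕ} (hN : 87500 ≤ N) : 2 < ((Finset.Ioc (2 * N) (3 * N)).filter Nat.Prime).card := by
  by_contra hc
  have h1 := choose_le N (not_lt.1 hc) (by omega)
  have h2 := choose_ge N
  have h3 := main_inequality hN
  have hD : 0 < Nat.choose (N + N / 2) N := Nat.choose_pos (by omega)
  have h4 : 2 ^ (N / 2) ≤ 2 ^ ((N + 1) / 2) := Nat.pow_le_pow_right two_pos (by omega)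
  have h5 : 5 ^ (N / 2) * Nat.choose (N + N / 2) N ≤ Nat.choose (3 * N) N := by
    refine Nat.le_of_mul_le_mul_left ?_ (pow_pos two_pos (N / 2))
    calc 2 ^ (N / 2) * (5 ^ (N / 2) * Nat.choose (N + N / 2) N)
        ≤ 2 ^ ((N + 1) / 2) * (5 ^ (N / 2) * Nat.choose (N + N / 2) N) := Nat.mul_le_mul_right _ h4
      _ = 2 ^ ((N + 1) / 2) * 5 ^ (N / 2) * Nat.choose (N + N / 2) N := by ring
      _ ≤ _ := h2
  have := h5.trans h1
  have := Nat.le_of_mul_le_mul_right this hD
  omega

/-- The prime used to build an alternating group. -/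
theorem exists_prime {n : ℕ} (hn : 7 ≤ n) : ∃ p : ℕ, p.Prime ∧ 5 ≤ p ∧ p + 2 ≤ n ∧ 2 * n ≤ 3 * p + 3 := by
  rcases Nat.lt_or_ge n 262502 with hs | hl
  · rcases Nat.lt_or_ge n 10 with h | h
    · exact ⟨5, by norm_num, by norm_num, by omega, by omega⟩
    rcases Nat.lt_or_ge n 13 with h | h
    · exact ⟨7, by norm_num, by norm_num, by omega, by omega⟩
    rcases Nat.lt_or_ge n 19 with h | h
    · exact ⟨11, by norm_num, by norm_num, by omega, by omega⟩
    rcases Nat.lt_or_ge n 28 with h | h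
    · exact ⟨17, by norm_num, by norm_num, by omega, by omega⟩
    rcases Nat.lt_or_ge n 37 with h | h
    · exact ⟨23, by norm_num, by norm_num, by omega, by omega⟩
    rcases Nat.lt_or_ge n 49 with h | h
    · exact ⟨31, by norm_num, by norm_num, by omega, by omega⟩
    rcases Nat.lt_or_ge n 73 with h | h
    · exact ⟨47, by norm_num, by norm_num, by omega, by omega⟩
    rcases Nat.lt_or_ge n 109 with h | h
    · exact ⟨71, by norm_num, by norm_num, by omega, by omega⟩
    rcases Nat.lt_or_ge n 163 with h | h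
    · exact ⟨107, by norm_num, by norm_num, by omega, by omega⟩
    rcases Nat.lt_or_ge n 238 with h | h
    · exact ⟨157, by norm_num, by norm_num, by omega, by omega⟩
    rcases Nat.lt_or_ge n 352 with h | h
    · exact ⟨233, by norm_num, by norm_num, by omega, by omega⟩
    rcases Nat.lt_or_ge n 526 with h | h
    · exact ⟨349, by norm_num, by norm_num, by omega, by omega⟩
    rcases Nat.lt_or_ge n 787 with h | h
    · exact ⟨523, by norm_num, by norm_num, by omega, by omega⟩
    rcases Nat.lt_or_ge n 1162 with h | h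
    · exact ⟨773, by norm_num, by norm_num, by omega, by omega⟩
    rcases Nat.lt_or_ge n 1732 with h | h
    · exact ⟨1153, by norm_num, by norm_num, by omega, by omega⟩
    rcases Nat.lt_or_ge n 2587 with h | h
    · exact ⟨1723, by norm_num, by norm_num, by omega, by omega⟩
    rcases Nat.lt_or_ge n 3871 with h | h
    · exact ⟨2579, by norm_num, by norm_num, by omega, by omega⟩
    rcases Nat.lt_or_ge n 5797 with h | h
    · exact ⟨3863, by norm_num, by norm_num, by omega, by omega⟩
    rcases Nat.lt_or_ge n 8689 with h | h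
    · exact ⟨5791, by norm_num, by norm_num, by omega, by omega⟩
    rcases Nat.lt_or_ge n 13024 with h | h
    · exact ⟨8681, by norm_num, by norm_num, by omega, by omega⟩
    rcases Nat.lt_or_ge n 19516 with h | h
    · exact ⟨13009, by norm_num, by norm_num, by omega, by omega⟩
    rcases Nat.lt_or_ge n 29263 with h | h
    · exact ⟨19507, by norm_num, by norm_num, by omega, by omega⟩
    rcases Nat.lt_or_ge n 43879 with h | h
    · exact ⟨29251, by norm_num, by norm_num, by omega, by omega⟩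
    rcases Nat.lt_or_ge n 65803 with h | h
    · exact ⟨43867, by norm_num, by norm_num, by omega, by omega⟩
    rcases Nat.lt_or_ge n 98686 with h | h
    · exact ⟨65789, by norm_num, by norm_num, by omega, by omega⟩
    rcases Nat.lt_or_ge n 148006 with h | h
    · exact ⟨98669, by norm_num, by norm_num, by omega, by omega⟩
    rcases Nat.lt_or_ge n 221998 with h | h
    · exact ⟨147997, by norm_num, by norm_num, by omega, by omega⟩
    exact ⟨221989, by norm_num, by norm_num, by omega, by omega⟩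
  · set N := (n - 2) / 3 with hN
    set T := (Finset.Ioc (2 * N) (3 * N)).filter Nat.Prime
    have hc : 2 < T.card := three_primes (by omega)
    obtain ⟨a, b, c, ha, hb, hc', hab, hac, hbc⟩ := Finset.two_lt_card_iff.1 hc
    simp only [T, Finset.mem_filter, Finset.mem_Ioc] at ha hb hc'
    obtain ⟨p, hp, hp2⟩ : ∃ p ∈ T, 2 * N + 3 ≤ p := by
      rcases (show 2 * N + 3 ≤ a ∨ 2 * N + 3 ≤ b ∨ 2 * N + 3 ≤ c by omega) with h | h | h
      · exact ⟨a, Finset.mem_filter.2 ⟨Finset.mem_Ioc.2 ha.1, ha.2⟩, h⟩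
      · exact ⟨b, Finset.mem_filter.2 ⟨Finset.mem_Ioc.2 hb.1, hb.2⟩, h⟩
      · exact ⟨c, Finset.mem_filter.2 ⟨Finset.mem_Ioc.2 hc'.1, hc'.2⟩, h⟩
    simp only [T, Finset.mem_filter, Finset.mem_Ioc] at hp
    exact ⟨p, hp.2, by omega, by omega, by omega⟩

end Cfsg.Agent.ShortPres.Seven.Primes
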