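import Mathlib
import Cfsg.Agent.Lib.ShortPres.Seven.Piece
import Cfsg.Agent.Lib.ShortPres.Seven.Adjoin
import Cfsg.Agent.Lib.ShortPres.Seven.Gen
import Cfsg.Agent.Lib.ShortPres.Seven.Primes

/-!
Seven relations for every alternating and symmetric group of degree at least five.
-/

set_option autoImplicit false
set_option linter.unusedSectionVars false

namespace Cfsg.Agent.ShortPres.Seven

open Equiv Cfsg.Agent.ShortPres.Alt

/-- Three generators with seven relations, and two with as many. -/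
def Out (G : Type*) [Group G] : Prop :=
  (∃ f : Fin 3 → G, On f 7) ∧ ∃ g : Fin 2 → G, On g 7

theorem Out.congr {G G' : Type*} [Group G] [Group G'] (h : Out G) (e : G ≃* G') : Out G' :=
  ⟨⟨_, h.1.choose_spec.congr e⟩, ⟨_, h.2.choose_spec.congr e⟩⟩

/-- Two generators from three, one of which is an involution commuting with one of order three. -/
theorem out_of_three {G : Type*} [Group G] {a x t : G} {k : ℕ} (hk : k ≤ 7) (h : On ![a, x, t] k)
    (hx : x ^ 3 = 1) (ht : t * t = 1) (hc : Commute x t) : Out G := by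
  refine ⟨⟨_, h.mono hk⟩, ⟨![a, x * t], ?_⟩⟩
  have h3 : (x * t) ^ 3 = t := by
    rw [hc.mul_pow, hx, one_mul, pow_three, ht, mul_one]
  have h2 : ((x * t) ^ 2)⁻¹ = x := by
    rw [inv_eq_iff_eq_inv, hc.mul_pow, sq t, ht, mul_one, eq_inv_iff_mul_eq_one, ← pow_succ]
    exact hx
  refine (h.mono hk).project _ ![FreeGroup.of 0, (FreeGroup.of 1 ^ 2)⁻¹, FreeGroup.of 1 ^ 3]
    ![FreeGroup.of 0, FreeGroup.of 1 * FreeGroup.of 2] (fun i => ?_) (fun j => ?_)
  · fin_cases i <;> simp [h2, h3]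
  · fin_cases j
    · simp
    · simp only [Fin.mk_one, Matrix.cons_val_one, Matrix.cons_val_zero, map_mul, FreeGroup.lift_apply_of]
      simp [pow_succ, mul_assoc]

section parity

variable {ι ω : Type*} [Fintype ι] [DecidableEq ι] [Fintype ω] [DecidableEq ω] {u v : ω}

theorem sign_sumComm : Perm.sign (Equiv.sumComm ι ι) = (-1) ^ Fintype.card ι := by
  let e : ι × Bool ≃ ι ⊕ ι :=
    { toFun := fun x => if x.2 then Sum.inr x.1 else Sum.inl x.1
      invFun := Sum.elim (fun i => (i, false)) (fun i => (i, true))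
      left_inv := by rintro ⟨i, _ | _⟩ <;> rfl
      right_inv := by rintro (i | i) <;> rfl }
  have h : Equiv.sumComm ι ι = e.permCongr (Equiv.prodCongrRight fun _ : ι => swap false true) := by
    ext x; rcases x with x | x <;> rfl
  rw [h, Perm.sign_permCongr, Perm.sign_prodCongrRight]
  simp [Finset.card_univ]

theorem sign_flipOld (ε : Perm ω) : Perm.sign (flipOld (ι := ι) ε) = (-1) ^ Fintype.card ι * Perm.sign ε := by
  rw [flipOld, Perm.sign_sumCongr, sign_sumComm]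

theorem sign_tau {σ : Perm ω} (h : Twist u v σ) :
    Perm.sign (tau (ι := ι) h) = (-1) ^ Fintype.card ι * Perm.sign σ := by
  let e : ((ι ⊕ ι) ⊕ ι) ⊕ ω ≃ All ι ω :=
    { toFun := fun x => match x with
        | Sum.inl (Sum.inl (Sum.inl i)) => Sum.inl (Sum.inl (Sum.inl i))
        | Sum.inl (Sum.inl (Sum.inr i)) => Sum.inr i
        | Sum.inl (Sum.inr i) => Sum.inl (Sum.inl (Sum.inr i))
        | Sum.inr w => Sum.inl (Sum.inr w)
      invFun := fun x => match x with
        | Sum.inl (Sum.inl (Sum.inl i)) => Sum.inl (Sum.inl (Sum.inl i))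
        | Sum.inr i => Sum.inl (Sum.inl (Sum.inr i))
        | Sum.inl (Sum.inl (Sum.inr i)) => Sum.inl (Sum.inr i)
        | Sum.inl (Sum.inr w) => Sum.inr w
      left_inv := by rintro (((i | i) | i) | w) <;> rfl
      right_inv := by rintro (((i | i) | w) | i) <;> rfl }
  have hh : tau (ι := ι) h = e.permCongr (Equiv.sumCongr (Equiv.sumCongr (Equiv.sumComm ι ι) 1) σ) := by
    refine Equiv.ext fun x => ?_
    show tauFun σ x = _
    rcases x with ((i | i) | w) | i <;> rfl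
  rw [hh, Perm.sign_permCongr, Perm.sign_sumCongr, Perm.sign_sumCongr, sign_sumComm, map_one, mul_one]

theorem neg_one_sq_pow (k : ℕ) : ((-1 : ℤˣ) ^ k) * (-1) ^ k = 1 := Int.units_mul_self _

theorem exists_twist (huv : u ≠ v) (k : ℕ) (s : ℤˣ) :
    ∃ σ : Perm ω, Twist u v σ ∧ (-1 : ℤˣ) ^ k * Perm.sign σ = s ∧ ((-1 : ℤˣ) ^ k = s → σ = 1) := by
  by_cases h : (-1 : ℤˣ) ^ k = s
  · exact ⟨1, Or.inl rfl, by rw [map_one, mul_one, h], fun _ => rfl⟩
  · refine ⟨swap u v, Or.inr rfl, ?_, fun h' => absurd h' h⟩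
    rw [Perm.sign_swap huv]
    rcases Int.units_eq_one_or ((-1 : ℤˣ) ^ k) with e | e <;>
      rcases Int.units_eq_one_or s with e' | e' <;> simp_all

/-- A three-cycle fixed by the twist, with a partner. -/
theorem exists_o1 (huv : u ≠ v) {σ : Perm ω} (hσ : Twist u v σ) (w : ω) (hwu : w ≠ u) (hwv : w ≠ v)
    (hroom : σ = 1 ∨ 5 ≤ Fintype.card (ι ⊕ ω)) :
    ∃ (a b : ι ⊕ ω) (hab : a ≠ b) (c : Rest a b) (o₂ : alternatingGroup (ι ⊕ ω)),
      Subgroup.closure ({cyc hab c, o₂} : Set (alternatingGroup (ι ⊕ ω))) = ⊤ ∧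
        cj (dn σ) (cyc hab c) = cyc hab c := by
  classical
  suffices h : ∃ (a b : ι ⊕ ω) (hab : a ≠ b) (c : Rest a b), dn σ a = a ∧ dn σ b = b ∧ dn σ c.1 = c.1 by
    obtain ⟨a, b, hab, c, ha, hb, hc⟩ := h
    obtain ⟨g, hg⟩ := exists_partner hab c
    exact ⟨a, b, hab, c, g, hg, altIso_cyc (dn σ) (u := a) (v := b) hab c (u' := a) (v' := b) hab c ha hb hc⟩
  rcases hσ with rfl | rfl
  · exact ⟨Sum.inr u, Sum.inr v, by simpa using huv, ⟨Sum.inr w, by simpa using hwu, by simpa using hwv⟩,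
      by simp [dn], by simp [dn], by simp [dn]⟩
  · have h5 : 5 ≤ Fintype.card (ι ⊕ ω) := by
      rcases hroom with h | h
      · exact absurd (Equiv.congr_fun h u) (by simp [huv.symm])
      · exact h
    set T : Finset (ι ⊕ ω) := ({Sum.inr u, Sum.inr v} : Finset (ι ⊕ ω))ᶜ
    have hT : 2 < T.card := by
      rw [Finset.card_compl, Finset.card_pair (by simpa using huv)]
      omega
    obtain ⟨a, b, c, ha, hb, hc, hab, hac, hbc⟩ := Finset.two_lt_card_iff.1 hT
    have key : ∀ x ∈ T, dn (swap u v) x = x := by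
      intro x hx
      simp only [T, Finset.mem_compl, Finset.mem_insert, Finset.mem_singleton, not_or] at hx
      rcases x with x | x
      · rfl
      · show Sum.inr (swap u v x) = _
        rw [swap_apply_of_ne_of_ne (by simpa using hx.1) (by simpa using hx.2)]
    exact ⟨a, b, hab, ⟨c, hac.symm, hbc.symm⟩, key a ha, key b hb, key c hc⟩

end parity

section build

variable {ι : Type} [Fintype ι] [DecidableEq ι] {c : ℕ}

theorem piece_at {p : ℕ} [Fact p.Prime] (hp : p ≠ 2) (hcard : p + 2 = 2 * Fintype.card ι + (c + 3))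
    {a b : ι ⊕ Fin (c + 3)} (hab : a ≠ b) (i : Rest a b) :
    ∃ ga : alternatingGroup (Old ι (Fin (c + 3))), On ![ga, eP (cyc hab i)] 4 := by
  obtain ⟨g0, h0⟩ := exists_piece (p := p) hp
  obtain ⟨e, he⟩ := equiv_three (α := ZMod p ⊕ Fin 2) (β := Old ι (Fin (c + 3)))
    (by simp; omega) ![Sum.inl 0, Sum.inr 0, Sum.inr 1] ![fP i.1, fP a, fP b]
    (inj_three (by simp) (by simp) (by simp))
    (inj_three (fP.injective.ne i.2.1) (fP.injective.ne i.2.2) (fP.injective.ne hab))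
  refine ⟨altIso e g0, ?_⟩
  have hx : altIso e gX = eP (cyc hab i) := by
    rw [eP, altEmb_cyc fP hab (fP.injective.ne hab) i ⟨fP i.1, fP.injective.ne i.2.1, fP.injective.ne i.2.2⟩ rfl]
    exact altIso_cyc e inr_ne _ _ _ (he 1) (he 2) (he 0)
  have := h0.congr (altIso e)
  rw [show (fun j => altIso e (![g0, gX] j)) = ![altIso e g0, eP (cyc hab i)] from
    funext fun j => by fin_cases j <;> simp [hx]] at this
  exact this

theorem zero_ne_one' : (⟨0, by omega⟩ : Fin (c + 3)) ≠ ⟨1, by omega⟩ := by simp [Fin.ext_iff]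

theorem rest_all : Nonempty (Rest (Sum.inl (Sum.inr ⟨0, by omega⟩) : All ι (Fin (c + 3)))
    (Sum.inl (Sum.inr ⟨1, by omega⟩))) :=
  ⟨⟨Sum.inl (Sum.inr ⟨2, by omega⟩), by simp [Fin.ext_iff], by simp [Fin.ext_iff]⟩⟩

theorem snoc_eq {G A : Type*} (f : A → G) (a x : A) (t : G) :
    (Fin.snoc (fun i => f (![a, x] i)) t : Fin 3 → G) = ![f a, f x, t] := by
  funext i; fin_cases i <;> rfl

theorem out_alt_all {p : ℕ} [Fact p.Prime] (hp : p ≠ 2) (hcard : p + 2 = 2 * Fintype.card ι + (c + 3))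
    (hroom : Even (Fintype.card ι) ∨ 5 ≤ Fintype.card (ι ⊕ Fin (c + 3))) :
    Out (alternatingGroup (All ι (Fin (c + 3)))) := by
  obtain ⟨σ, hσ, hs, hs1⟩ := exists_twist (zero_ne_one' (c := c)) (Fintype.card ι) 1
  have hg : flipOld (ι := ι) σ ∈ alternatingGroup _ := by rw [Perm.mem_alternatingGroup, sign_flipOld, hs]
  have ht : tau (ι := ι) hσ ∈ alternatingGroup _ := by rw [Perm.mem_alternatingGroup, sign_tau, hs]
  obtain ⟨a, b, hab, i, o₂, hgen, hfix⟩ := exists_o1 (ι := ι) zero_ne_one' hσ ⟨2, by omega⟩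
    (by simp [Fin.ext_iff]) (by simp [Fin.ext_iff]) (hroom.imp (fun h => hs1 h.neg_one_pow) id)
  obtain ⟨ga, hA⟩ := piece_at hp hcard hab i
  have hcube : cyc hab i ^ 3 = 1 := (rels_cyc hab).cube i
  have h := adjoin_alt_fixed zero_ne_one' hσ hg ht rest_all hgen hfix hcube hA
  rw [snoc_eq] at h
  refine out_of_three le_rfl h (by rw [← map_pow, ← map_pow, hcube, map_one, map_one])
    (Subtype.ext (tau_mul_self hσ)) ?_
  show _ = _
  have := cj_eq_conj (⟨_, ht⟩ : alternatingGroup (All ι (Fin (c + 3)))) (iA (eP (cyc hab i)))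
  rw [tau_P, hfix, eq_mul_inv_iff_mul_eq] at this
  exact this

theorem out_sym_all {p : ℕ} [Fact p.Prime] (hp : p ≠ 2) (hcard : p + 2 = 2 * Fintype.card ι + (c + 3))
    (hroom : Odd (Fintype.card ι) ∨ 5 ≤ Fintype.card (ι ⊕ Fin (c + 3))) :
    Out (Perm (All ι (Fin (c + 3)))) := by
  obtain ⟨σ, hσ, hs, hs1⟩ := exists_twist (zero_ne_one' (c := c)) (Fintype.card ι) (-1)
  obtain ⟨ε, hε, he, -⟩ := exists_twist (zero_ne_one' (c := c)) (Fintype.card ι) 1
  have hg : flipOld (ι := ι) ε ∈ alternatingGroup _ := by rw [Perm.mem_alternatingGroup, sign_flipOld, he]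
  have ht : Perm.sign (tau (ι := ι) hσ) = -1 := by rw [sign_tau, hs]
  obtain ⟨a, b, hab, i, o₂, hgen, hfix⟩ := exists_o1 (ι := ι) zero_ne_one' hσ ⟨2, by omega⟩
    (by simp [Fin.ext_iff]) (by simp [Fin.ext_iff]) (hroom.imp (fun h => hs1 h.neg_one_pow) id)
  obtain ⟨ga, hA⟩ := piece_at hp hcard hab i
  have hcube : cyc hab i ^ 3 = 1 := (rels_cyc hab).cube i
  have huv' : (Sum.inr ⟨0, by omega⟩ : ι ⊕ Fin (c + 3)) ≠ Sum.inr ⟨1, by omega⟩ := by simp [Fin.ext_iff]
  let w : Rest (⟨0, by omega⟩ : Fin (c + 3)) ⟨1, by omega⟩ :=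
    ⟨⟨2, by omega⟩, by simp [Fin.ext_iff], by simp [Fin.ext_iff]⟩
  let w' : Rest (Sum.inr ⟨0, by omega⟩ : ι ⊕ Fin (c + 3)) (Sum.inr ⟨1, by omega⟩) :=
    ⟨Sum.inr ⟨2, by omega⟩, by simp [Fin.ext_iff], by simp [Fin.ext_iff]⟩
  obtain ⟨h', hgen'⟩ := exists_partner huv' w'
  rw [show cyc huv' w' = eW (cyc zero_ne_one' w) from
    (altEmb_cyc Function.Embedding.inr zero_ne_one' huv' w w' rfl).symm] at hgen'
  have h := adjoin_sym zero_ne_one' hσ hε hg ht rest_all hgen hfix hcube hgen' hA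
  rw [snoc_eq (fun a => ((iA a : alternatingGroup (All ι (Fin (c + 3)))) : Perm (All ι (Fin (c + 3)))))] at h
  refine out_of_three le_rfl h (by rw [← Subgroup.coe_pow, ← map_pow, ← map_pow, hcube, map_one, map_one]; rfl)
    (tau_mul_self hσ) ?_
  show _ = _
  have := cj_val (tau hσ) (iA (eP (cyc hab i)))
  rw [tau_P, hfix, eq_mul_inv_iff_mul_eq] at this
  exact this

end build

theorem card_all (k c : ℕ) : Fintype.card (All (Fin k) (Fin (c + 3))) = 3 * k + (c + 3) := by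
  simp; ring

theorem exists_data {n : ℕ} (hn : 5 ≤ n) : ∃ p k c : ℕ, p.Prime ∧ p ≠ 2 ∧ p + 2 = 2 * k + (c + 3) ∧
    3 * k + (c + 3) = n ∧ (n ≠ 6 → 5 ≤ k + (c + 3)) := by
  rcases Nat.lt_or_ge n 7 with h | h
  · refine ⟨3, n - 5, 2 - 2 * (n - 5), Nat.prime_three, by omega, by omega, by omega, by omega⟩
  obtain ⟨p, hp, h5, h1, h2⟩ := Primes.exists_prime h
  exact ⟨p, n - (p + 2), p + 2 - 2 * (n - (p + 2)) - 3, hp, by omega, by omega, by omega, by omega⟩

theorem out_alt {n : ℕ} (hn : 5 ≤ n) (h6 : n ≠ 6) : Out (alternatingGroup (Fin n)) := by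
  obtain ⟨p, k, c, hp, hp2, hc, hn', h5⟩ := exists_data hn
  have : Fact p.Prime := ⟨hp⟩
  exact (out_alt_all (ι := Fin k) (c := c) hp2 (by simpa using hc) (Or.inr (by simpa using h5 h6))).congr
    (altIso (Fintype.equivFinOfCardEq (by rw [card_all, hn'])))

theorem out_sym {n : ℕ} (hn : 5 ≤ n) : Out (Perm (Fin n)) := by
  obtain ⟨p, k, c, hp, hp2, hc, hn', h5⟩ := exists_data hn
  have : Fact p.Prime := ⟨hp⟩
  refine (out_sym_all (ι := Fin k) (c := c) hp2 (by simpa using hc) ?_).congr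
    (Equiv.permCongrHom (Fintype.equivFinOfCardEq (by rw [card_all, hn'])))
  by_cases h6 : n = 6
  · refine Or.inl ?_
    rw [Fintype.card_fin]
    have : k = 1 := by
      rcases Nat.lt_or_ge k 1 with h | h
      · exfalso
        have : p = 4 := by omega
        subst this
        norm_num at hp
      · omega
    rw [this]; exact odd_one
  · exact Or.inr (by simpa using h5 h6)

end Cfsg.Agent.ShortPres.Seven
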