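import Mathlib
import Cfsg.Agent.Lib.ShortPres.Seven.Assemble

/-!
Seven relations for the alternating group of degree six.
-/

set_option autoImplicit false

namespace Cfsg.Agent.ShortPres.Seven

open Equiv Cfsg.Agent.ShortPres.Alt

/-- The twist. -/
def s01 : Perm (Fin 3) := swap 0 1

theorem twist01 : Twist (0 : Fin 3) 1 s01 := Or.inr rfl

/-- The embedding of the piece. -/
def e6 : ZMod 3 ⊕ Fin 2 ≃ Old (Fin 1) (Fin 3) where
  toFun := Sum.elim (fun z => if z = 0 then Sum.inl (Sum.inr 0) else if z = 1 then Sum.inl (Sum.inl 0) else Sum.inr 0)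
    ![Sum.inr 1, Sum.inr 2]
  invFun := Sum.elim (Sum.elim (fun _ => Sum.inl 1) fun _ => Sum.inl 0) ![Sum.inl 2, Sum.inr 0, Sum.inr 1]
  left_inv := by decide
  right_inv := by decide

/-- The first generator. -/
def mA : All (Fin 1) (Fin 3) → All (Fin 1) (Fin 3) :=
  Sum.elim (fun b => Sum.inl (e6 (Sum.map (fun z => z + 1) id (e6.symm b)))) Sum.inr

/-- The second generator. -/
def mX : All (Fin 1) (Fin 3) → All (Fin 1) (Fin 3) :=
  fun x => swap (Sum.inl (Sum.inl (Sum.inr 0))) (Sum.inl (Sum.inr 1))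
    (swap (Sum.inl (Sum.inr 1)) (Sum.inl (Sum.inr 2)) x)

theorem word_six : ∀ x : All (Fin 1) (Fin 3),
    mA (mX (tauFun s01 (mA (mX (mA (mX (tauFun s01 (mA (mX (tauFun s01 (mA (mX (mA (mX (mA (mX x))))))))))))))))
      = mX x := by
  decide

theorem out_alt_six : Out (alternatingGroup (Fin 6)) := by
  have : Fact (Nat.Prime 3) := ⟨Nat.prime_three⟩
  obtain ⟨g0, hg0, h0⟩ := exists_piece' (p := 3) (by decide)
  have hg : flipOld (ι := Fin 1) s01 ∈ alternatingGroup _ := by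
    rw [Perm.mem_alternatingGroup, sign_flipOld]; decide
  have ht : tau (ι := Fin 1) twist01 ∈ alternatingGroup _ := by
    rw [Perm.mem_alternatingGroup, sign_tau]; decide
  have hab : (Sum.inr 1 : Fin 1 ⊕ Fin 3) ≠ Sum.inr 2 := by decide
  let i : Rest (Sum.inr 1 : Fin 1 ⊕ Fin 3) (Sum.inr 2) := ⟨Sum.inl 0, by decide⟩
  let j : Rest (Sum.inr 1 : Fin 1 ⊕ Fin 3) (Sum.inr 2) := ⟨Sum.inr 0, by decide⟩
  have hab' : (Sum.inr 0 : Fin 1 ⊕ Fin 3) ≠ Sum.inr 2 := by decide
  let i' : Rest (Sum.inr 0 : Fin 1 ⊕ Fin 3) (Sum.inr 2) := ⟨Sum.inl 0, by decide⟩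
  have himg : cj (dn (ι := Fin 1) s01) (cyc hab i) = cyc hab' i' :=
    altIso_cyc (dn s01) (u := Sum.inr 1) (v := Sum.inr 2) hab i hab' i' (by decide) (by decide) (by decide)
  have hj : cyc hab j = cyc hab i * (cyc hab' i')⁻¹ := by
    refine Subtype.ext ?_
    show swap (Sum.inr 0 : Fin 1 ⊕ Fin 3) (Sum.inr 1) * swap (Sum.inr 1) (Sum.inr 2) =
      swap (Sum.inl 0 : Fin 1 ⊕ Fin 3) (Sum.inr 1) * swap (Sum.inr 1) (Sum.inr 2) *
        (swap (Sum.inl 0 : Fin 1 ⊕ Fin 3) (Sum.inr 0) * swap (Sum.inr 0) (Sum.inr 2))⁻¹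
    rw [_root_.mul_inv_rev, swap_inv, swap_inv]
    refine Equiv.ext fun x => ?_
    revert x
    decide
  have hgen : Subgroup.closure ({cyc hab i, cj (dn s01) (cyc hab i)} : Set (alternatingGroup (Fin 1 ⊕ Fin 3))) = ⊤ := by
    rw [himg, eq_top_iff, ← closure_cyc hab, Subgroup.closure_le]
    rintro _ ⟨k, rfl⟩
    have h1 : cyc hab i ∈ Subgroup.closure ({cyc hab i, cyc hab' i'} : Set (alternatingGroup (Fin 1 ⊕ Fin 3))) :=
      Subgroup.subset_closure (Set.mem_insert _ _)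
    have h2 : cyc hab' i' ∈ Subgroup.closure ({cyc hab i, cyc hab' i'} : Set (alternatingGroup (Fin 1 ⊕ Fin 3))) :=
      Subgroup.subset_closure (Set.mem_insert_of_mem _ rfl)
    have hk : k = i ∨ k = j := by
      revert k
      decide
    rcases hk with rfl | rfl
    · exact h1
    · rw [hj]; exact mul_mem h1 (inv_mem h2)
  have hA : On ![altIso e6 g0, eP (cyc hab i)] 4 := by
    have hx : altIso e6 gX = eP (cyc hab i) := by
      rw [eP, altEmb_cyc fP hab (fP.injective.ne hab) i ⟨fP i.1, fP.injective.ne i.2.1, fP.injective.ne i.2.2⟩ rfl]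
      exact altIso_cyc e6 inr_ne _ _ _ (by rfl) (by rfl) (by rfl)
    have := h0.congr (altIso e6)
    rw [show (fun j => altIso e6 (![g0, gX] j)) = ![altIso e6 g0, eP (cyc hab i)] from
      funext fun j => by fin_cases j <;> simp [hx]] at this
    exact this
  have h := adjoin_alt_swapped (by decide : (0 : Fin 3) ≠ 1) twist01 hg ht
    ⟨⟨Sum.inl (Sum.inr 2), by decide⟩⟩ hgen hA
  rw [snoc_eq] at h
  let e : All (Fin 1) (Fin 3) ≃ Fin 6 := Fintype.equivFinOfCardEq (by decide)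
  refine Out.congr ⟨⟨_, h⟩, ⟨![iA (altIso e6 g0) * iA (eP (cyc hab i)), ⟨_, ht⟩], ?_⟩⟩ (altIso e)
  let B : FreeGroup (Fin 2) := FreeGroup.of 0
  let T : FreeGroup (Fin 2) := FreeGroup.of 1
  let W : FreeGroup (Fin 2) := B * T * B * B * T * B * T * B * B * B
  refine h.project _ ![B * W⁻¹, W, T] ![FreeGroup.of 0 * FreeGroup.of 1, FreeGroup.of 2] (fun k => ?_) (fun k => ?_)
  · have ea : ∀ x, (iA (altIso e6 g0) : Perm (All (Fin 1) (Fin 3))) x = mA x := by
      rintro (b | b)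
      · rw [show (Sum.inl b : All (Fin 1) (Fin 3)) = fA b from rfl, altEmb_apply]
        show Sum.inl _ = Sum.inl _
        congr 1
        obtain ⟨y, rfl⟩ := e6.surjective b
        rw [Equiv.symm_apply_apply, show Sum.map (fun z => z + 1) id y = (g0 : Perm (ZMod 3 ⊕ Fin 2)) y by
          rw [hg0]; rcases y with y | y <;> rfl]
        exact altEmb_apply e6.toEmbedding g0 y
      · exact altEmb_fix fA _ (by rintro ⟨w, hw⟩; exact Sum.inl_ne_inr hw)
    have ex : ∀ x, (iA (eP (cyc hab i)) : Perm (All (Fin 1) (Fin 3))) x = mX x := by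
      intro x
      rw [eP, iA, altEmb_comp, altEmb_cyc (fP.trans fA) hab ((fP.trans fA).injective.ne hab) i
        ⟨(fP.trans fA) i.1, (fP.trans fA).injective.ne i.2.1, (fP.trans fA).injective.ne i.2.2⟩ rfl]
      rfl
    have et : ∀ x, tau (ι := Fin 1) twist01 x = tauFun s01 x := fun x => rfl
    set g : Fin 2 → alternatingGroup (All (Fin 1) (Fin 3)) := ![iA (altIso e6 g0) * iA (eP (cyc hab i)), ⟨_, ht⟩]
    have hW : FreeGroup.lift g W = iA (eP (cyc hab i)) := by
      simp only [W, B, T, map_mul, FreeGroup.lift_apply_of, g, Matrix.cons_val_zero, Matrix.cons_val_one]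
      refine Subtype.ext (Equiv.ext fun x => ?_)
      simp only [Subgroup.coe_mul, Perm.mul_apply, ea, ex, et]
      exact word_six x
    fin_cases k
    · show FreeGroup.lift g (B * W⁻¹) = iA (altIso e6 g0)
      rw [map_mul, map_inv, hW]
      simp [B, g]
    · show FreeGroup.lift g W = iA (eP (cyc hab i))
      exact hW
    · simp [T, g]
  · fin_cases k
    · show FreeGroup.lift ![B * W⁻¹, W, T] (FreeGroup.of 0 * FreeGroup.of 1) = FreeGroup.of 0
      rw [map_mul, FreeGroup.lift_apply_of, FreeGroup.lift_apply_of]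
      exact inv_mul_cancel_right B W
    · simp [T]

end Cfsg.Agent.ShortPres.Seven
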