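import Mathlib
import Cfsg.Agent.Lib.ShortPres.Seven.Six

/-!
The small degrees, and the statements in the form of presented groups.
-/

set_option autoImplicit false

namespace Cfsg.Agent.ShortPres.Seven

open Equiv Cfsg.Agent.ShortPres.Alt Cfsg.Agent.ShortPres.Bound Monoid

/-- A symmetric group needs three relations more than its alternating group. -/
theorem pres_perm {α : Type*} [Fintype α] [DecidableEq α] {a k : ℕ} {f : Fin a → alternatingGroup α} (hA : On f k)
    {o₁ o₂ : alternatingGroup α} (hgen : Subgroup.closure ({o₁, o₂} : Set (alternatingGroup α)) = ⊤)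
    {t : Perm α} (hts : Perm.sign t = -1) (htt : t * t = 1) : Pres (Perm α) (k + 3) := by
  have hti : t⁻¹ = t := inv_eq_of_mul_eq_one_right htt
  let y : Coprod (alternatingGroup α) (FreeGroup (Fin 1)) := Coprod.inr (FreeGroup.of 0)
  let l : alternatingGroup α →* Coprod (alternatingGroup α) (FreeGroup (Fin 1)) := Coprod.inl
  refine ((On.adjoin hA (alternatingGroup α).subtype t ?_
    [y * y, y * l o₁ * y * (l (cj t o₁))⁻¹, y * l o₂ * y * (l (cj t o₂))⁻¹] ?_ ?_).presN).toPres
  · intro K hK hKt
    refine eq_top_iff.2 fun g _ => ?_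
    rcases Int.units_eq_one_or (Perm.sign g) with e | e
    · exact hK ⟨⟨g, Perm.mem_alternatingGroup.2 e⟩, rfl⟩
    · have h1 : g * t ∈ K := hK ⟨⟨g * t, Perm.mem_alternatingGroup.2 (by rw [map_mul, e, hts]; decide)⟩, rfl⟩
      have := K.mul_mem h1 hKt
      rwa [mul_assoc, htt, mul_one] at this
  · intro e he
    simp only [List.mem_cons, List.not_mem_nil, or_false] at he
    rcases he with rfl | rfl | rfl <;>
      simp only [map_mul, map_inv, y, l, cop_inl, cop_inr, Subgroup.coe_subtype, mul_inv_eq_one, cj_val, hti]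
    exact htt
  · intro H _ α' T hE
    simp only [List.forall_mem_cons, List.not_mem_nil, false_imp_iff, implies_true, and_true, map_mul, map_inv,
      y, l, cop_inl, cop_inr, mul_inv_eq_one] at hE
    obtain ⟨hT, h1, h2⟩ := hE
    have hc := conj_of_gen α' (α'.comp (cj t)) hT hgen h1 h2
    let ev : Perm α → alternatingGroup α := fun g =>
      if e : Perm.sign g = 1 then ⟨g, Perm.mem_alternatingGroup.2 e⟩
      else ⟨g * t, Perm.mem_alternatingGroup.2 (by
        rw [map_mul, hts, (Int.units_eq_one_or (Perm.sign g)).resolve_left e]; decide)⟩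
    let ψ : Perm α → H := fun g => if Perm.sign g = 1 then α' (ev g) else α' (ev g) * T
    have ev1 : ∀ g, Perm.sign g = 1 → (ev g : Perm α) = g := fun g e => by simp [ev, e]
    have ev2 : ∀ g, Perm.sign g = -1 → (ev g : Perm α) = g * t := fun g e => by simp [ev, e]
    have hne' : ¬ ((-1 : ℤˣ) = 1) := by decide
    have hmul : ∀ g g', ψ (g * g') = ψ g * ψ g' := by
      intro g g'
      rcases Int.units_eq_one_or (Perm.sign g) with e | e <;>
        rcases Int.units_eq_one_or (Perm.sign g') with e' | e'
      · simp only [ψ, map_mul, e, e', mul_one, if_true]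
        rw [← map_mul]
        congr 1
        exact Subtype.ext (by rw [Subgroup.coe_mul, ev1 g e, ev1 g' e', ev1 _ (by rw [map_mul, e, e', mul_one])])
      · simp only [ψ, map_mul, e, e', one_mul, if_true, if_neg hne']
        rw [← mul_assoc, ← map_mul]
        congr 2
        exact Subtype.ext (by rw [Subgroup.coe_mul, ev1 g e, ev2 g' e', ev2 _ (by rw [map_mul, e, e', one_mul]),
          mul_assoc])
      · simp only [ψ, map_mul, e, e', mul_one, if_true, if_neg hne']
        calc α' (ev (g * g')) * T = α' (ev g * cj t (ev g')) * T := by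
              congr 2
              refine Subtype.ext ?_
              rw [Subgroup.coe_mul, cj_val, ev2 g e, ev1 g' e', ev2 _ (by rw [map_mul, e, e', mul_one]), hti]
              simp only [mul_assoc]
              rw [← mul_assoc t t, htt, one_mul]
          _ = _ := by
              rw [map_mul, ← MonoidHom.comp_apply α' (cj t), ← hc]
              simp only [mul_assoc, hT, mul_one]
      · simp only [ψ, map_mul, e, e', neg_mul, mul_neg, one_mul, neg_neg, if_true, if_neg hne']
        calc α' (ev (g * g')) = α' (ev g * cj t (ev g')) := by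
              congr 1
              refine Subtype.ext ?_
              rw [Subgroup.coe_mul, cj_val, ev2 g e, ev2 g' e', ev1 _ (by rw [map_mul, e, e']; decide), hti]
              simp only [mul_assoc]
              simp only [← mul_assoc t t, htt, one_mul, mul_one]
          _ = _ := by
              rw [map_mul, ← MonoidHom.comp_apply α' (cj t), ← hc]
              simp only [mul_assoc]
    refine ⟨MonoidHom.mk' ψ hmul, MonoidHom.ext fun a => ?_, ?_⟩
    · show ψ (a : Perm α) = α' a
      have e : Perm.sign (a : Perm α) = 1 := Perm.mem_alternatingGroup.1 a.2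
      simp only [ψ, e, if_true]
      rw [show ev (a : Perm α) = a from Subtype.ext (ev1 _ e)]
    · show ψ t = T
      simp only [ψ, hts, if_neg hne']
      rw [show ev t = 1 from Subtype.ext (by rw [ev2 _ hts, htt]; rfl), map_one, one_mul]

theorem pres_trivial (G : Type*) [Group G] [Subsingleton G] : Pres G 0 :=
  ⟨0, Fin.elim0, [], by simp, by simp, fun g => ⟨1, Subsingleton.elim _ _⟩,
    fun r _ => by rw [Subsingleton.elim r 1]; exact one_mem _⟩

theorem two_of_pres {G : Type*} [Group G] {k : ℕ} (h : Pres G k) (hk : k + 2 ≤ 8) {a b : G}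
    (hg : Subgroup.closure ({a, b} : Set G) = ⊤) : ∃ g : Fin 2 → G, On g 8 :=
  ⟨![a, b], (Pres_on h ![a, b] (by rw [show Set.range ![a, b] = {a, b} by simp [Matrix.range_cons, Set.pair_comm]]; exact hg)).mono hk⟩

theorem pres_alt_small {n : ℕ} (h3 : 3 ≤ n) (h4 : n ≤ 4) :
    ∃ (a : ℕ) (f : Fin a → alternatingGroup (Fin n)), On f 3 := by
  interval_cases n
  · obtain ⟨f, hf⟩ : PresN (alternatingGroup (Fin 3)) _ 3 := (pres_small' (u := (0 : Fin 3)) (v := 1) (by decide)
      ⟨⟨2, by decide⟩⟩).mono (by decide)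
    exact ⟨_, f, hf⟩
  · obtain ⟨f, hf⟩ : PresN (alternatingGroup (Fin 4)) _ 3 := (pres_small' (u := (0 : Fin 4)) (v := 1) (by decide)
      ⟨⟨2, by decide⟩⟩).mono (by decide)
    exact ⟨_, f, hf⟩

theorem two_alt (n : ℕ) : ∃ g : Fin 2 → alternatingGroup (Fin n), On g 8 := by
  rcases Nat.lt_or_ge n 3 with h | h
  · have := subsingleton_alt (n := n) (by omega)
    exact two_of_pres (pres_trivial _) (by norm_num) (a := 1) (b := 1)
      (eq_top_iff.2 fun g _ => by rw [Subsingleton.elim g 1]; exact one_mem _)
  rcases Nat.lt_or_ge n 5 with h5 | h5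
  · obtain ⟨a, f, hf⟩ := pres_alt_small h (by omega)
    obtain ⟨o₁, o₂, ho⟩ := exists_pair h
    exact two_of_pres hf.presN.toPres (by norm_num) ho
  obtain ⟨g, hg⟩ := (if h6 : n = 6 then h6 ▸ out_alt_six else out_alt h5 h6 : Out (alternatingGroup (Fin n))).2
  exact ⟨g, hg.mono (by norm_num)⟩

theorem two_sym (n : ℕ) : ∃ g : Fin 2 → Perm (Fin n), On g 8 := by
  rcases Nat.lt_or_ge n 5 with h5 | h5
  · rcases Nat.lt_or_ge n 2 with h | h
    · have : Subsingleton (Fin n) := Fin.subsingleton_iff_le_one.2 (by omega)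
      exact two_of_pres (pres_trivial _) (by norm_num) (a := 1) (b := 1)
        (eq_top_iff.2 fun g _ => by rw [Subsingleton.elim g 1]; exact one_mem _)
    have hgen : ∃ a b : Perm (Fin n), Subgroup.closure ({a, b} : Set (Perm (Fin n))) = ⊤ := by
      obtain ⟨m, rfl⟩ : ∃ m, n = m + 2 := ⟨n - 2, by omega⟩
      exact ⟨_, _, Equiv.Perm.closure_cycle_adjacent_swap (isCycle_finRotate (n := m)) support_finRotate 0⟩
    obtain ⟨a, b, hab⟩ := hgen
    have ht : Perm.sign (swap (⟨0, by omega⟩ : Fin n) ⟨1, by omega⟩) = -1 := Perm.sign_swap (by simp)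
    rcases Nat.lt_or_ge n 3 with h2 | h3
    · have := subsingleton_alt (n := n) (by omega)
      obtain ⟨m, f, R, h1, hf⟩ := pres_trivial (alternatingGroup (Fin n))
      exact two_of_pres (pres_perm (f := f) (k := 0) ⟨R, h1, hf⟩ (o₁ := 1) (o₂ := 1)
        (eq_top_iff.2 fun g _ => by rw [Subsingleton.elim g 1]; exact one_mem _) ht (swap_mul_self _ _))
        (by norm_num) hab
    · obtain ⟨m, f, hf⟩ := pres_alt_small h3 (by omega)
      obtain ⟨o₁, o₂, ho⟩ := exists_pair h3
      exact two_of_pres (pres_perm hf ho ht (swap_mul_self _ _)) (by norm_num) hab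
  obtain ⟨g, hg⟩ := (out_sym h5).2
  exact ⟨g, hg.mono (by norm_num)⟩

theorem out_alt' {n : ℕ} (hn : 5 ≤ n) : Out (alternatingGroup (Fin n)) := by
  by_cases h6 : n = 6
  · subst h6; exact out_alt_six
  · exact out_alt hn h6

theorem Out.any {G : Type*} [Group G] (h : Out G) {a b : G} (hg : Subgroup.closure ({a, b} : Set G) = ⊤) :
    On ![a, b] 9 :=
  Pres_on h.2.choose_spec.presN.toPres ![a, b]
    (by rw [show Set.range ![a, b] = {a, b} by simp [Matrix.range_cons, Set.pair_comm]]; exact hg)

end Cfsg.Agent.ShortPres.Seven
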